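import Mathlib

/-!
# The action of the normaliser on a Sylow 3-subgroup of order nine with three fused classes

Such an action is inversion, or the action of a four-group by signs on two coordinates.
-/

set_option autoImplicit false
set_option linter.style.haveILetI false
set_option linter.unusedSectionVars false

noncomputable section

namespace Cfsg.Agent.NineSylow

open scoped Classical

universe u

variable {G : Type u} [Group G] [Finite G] (P : Sylow 3 G)

/-- The automorphisms of the Sylow subgroup induced by the normaliser. -/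
def autE : Subgroup (MulAut (P : Subgroup G)) := (P : Subgroup G).normalizerMonoidHom.range

/-- The point with the given coordinates. -/
def pt (e f : (P : Subgroup G)) (i j : ZMod 3) : (P : Subgroup G) := e ^ i.val * f ^ j.val

/-- The normaliser acts by inversion. -/
structure InvCase : Prop where
  comm : IsMulCommutative (P : Subgroup G)
  conj : ∀ y y' : (P : Subgroup G), IsConj (y : G) (y' : G) ↔ y' = y ∨ y' = y⁻¹
  free : ∀ y : (P : Subgroup G), y ≠ 1 →
    ∀ n ∈ Subgroup.normalizer ((P : Subgroup G) : Set G), n * (y : G) * n⁻¹ = y →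
      n ∈ Subgroup.centralizer ((P : Subgroup G) : Set G)

/-- The normaliser acts by signs on two coordinates. -/
structure FourCase (e f : (P : Subgroup G)) : Prop where
  comm : IsMulCommutative (P : Subgroup G)
  he : e ^ 3 = 1
  hf : f ^ 3 = 1
  bij : Function.Bijective fun t : ZMod 3 × ZMod 3 => pt P e f t.1 t.2
  conj : ∀ i j k l : ZMod 3, IsConj (pt P e f i j : G) (pt P e f k l : G) ↔
    (k = i ∨ k = -i) ∧ (l = j ∨ l = -j)
  free : ∀ i j : ZMod 3, i ≠ 0 → j ≠ 0 →
    ∀ n ∈ Subgroup.normalizer ((P : Subgroup G) : Set G),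
      n * (pt P e f i j : G) * n⁻¹ = pt P e f i j →
      n ∈ Subgroup.centralizer ((P : Subgroup G) : Set G)

variable {P}

theorem zmod_three_cases : ∀ x : ZMod 3, x = 0 ∨ x = 1 ∨ x = -1 := by decide

theorem zmod_three_sq : ∀ x : ZMod 3, x ≠ 0 → x * x = 1 := by decide

theorem zmod_three_neg : ∀ x : ZMod 3, -x = x → x = 0 := by decide

theorem autE_apply {n : G} (hn : n ∈ Subgroup.normalizer ((P : Subgroup G) : Set G))
    (y : (P : Subgroup G)) :
    (((P : Subgroup G).normalizerMonoidHom ⟨n, hn⟩ y : (P : Subgroup G)) : G) =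
      n * (y : G) * n⁻¹ := rfl

theorem comm_of_card (hP : Nat.card (P : Subgroup G) = 9) :
    IsMulCommutative (P : Subgroup G) :=
  ⟨⟨IsPGroup.commutative_of_card_eq_prime_sq (p := 3) (by rw [hP]; norm_num)⟩⟩

theorem conj_iff (hab : IsMulCommutative (P : Subgroup G)) (y y' : (P : Subgroup G)) :
    IsConj (y : G) (y' : G) ↔ ∃ a ∈ autE P, a y = y' := by
  haveI := hab
  constructor
  · intro hc
    obtain ⟨g, hg⟩ := isConj_iff.1 hc
    obtain ⟨n, hn, hn'⟩ := P.conj_eq_normalizer_conj_of_mem (y : G) g⁻¹ y.2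
      (by rw [inv_inv, hg]; exact y'.2)
    rw [inv_inv, hg] at hn'
    refine ⟨(P : Subgroup G).normalizerMonoidHom ⟨n⁻¹, inv_mem hn⟩, ⟨_, rfl⟩, Subtype.ext ?_⟩
    rw [autE_apply, inv_inv, hn']
  · rintro ⟨a, ⟨⟨n, hn⟩, rfl⟩, rfl⟩
    exact isConj_iff.2 ⟨n, (autE_apply hn y).symm⟩

theorem free_of_autE {y : (P : Subgroup G)} (h : ∀ a ∈ autE P, a y = y → a = 1) {n : G}
    (hn : n ∈ Subgroup.normalizer ((P : Subgroup G) : Set G)) (hny : n * (y : G) * n⁻¹ = y) :
    n ∈ Subgroup.centralizer ((P : Subgroup G) : Set G) := by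
  have h1 := h _ ⟨⟨n, hn⟩, rfl⟩ (Subtype.ext ((autE_apply hn y).trans hny))
  have h2 : (⟨n, hn⟩ : Subgroup.normalizer ((P : Subgroup G) : Set G)) ∈
      (P : Subgroup G).normalizerMonoidHom.ker := h1
  rw [Subgroup.normalizerMonoidHom_ker] at h2
  exact h2

theorem coprime_autE (hab : IsMulCommutative (P : Subgroup G)) :
    ¬ 3 ∣ Nat.card (autE P) := by
  intro hd
  haveI : Fact (Nat.Prime 3) := ⟨Nat.prime_three⟩
  refine P.not_dvd_index (hd.trans ?_)
  have h1 : (P : Subgroup G).subgroupOf (Subgroup.normalizer ((P : Subgroup G) : Set G)) ≤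
      (P : Subgroup G).normalizerMonoidHom.ker := by
    intro x hx
    rw [Subgroup.normalizerMonoidHom_ker]
    intro z hz
    exact congrArg Subtype.val (hab.is_comm.comm ⟨z, hz⟩ ⟨(x : G), hx⟩)
  rw [autE, ← Subgroup.index_ker]
  exact (Subgroup.index_dvd_of_le h1).trans
    (Subgroup.relIndex_dvd_index_of_le Subgroup.le_normalizer)

theorem pow_autE (a : MulAut (P : Subgroup G)) (ha : a ∈ autE P) :
    a ^ Nat.card (autE P) = 1 :=
  congrArg Subtype.val (pow_card_eq_one' (x := (⟨a, ha⟩ : autE P)))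

variable [IsSimpleGroup G]

/-- A simple non-abelian group fixes no nontrivial element of an abelian Sylow subgroup under the
normaliser. -/
theorem eq_one_of_fixed (hna : ¬ IsMulCommutative G) (hab : IsMulCommutative (P : Subgroup G))
    (y : (P : Subgroup G)) (h : ∀ a ∈ autE P, a y = y) : y = 1 := by
  haveI : Fact (Nat.Prime 3) := ⟨Nat.prime_three⟩
  letI : CommGroup (P : Subgroup G) :=
    { (inferInstance : Group (P : Subgroup G)) with mul_comm := hab.is_comm.comm }
  have key : ∀ (k : ℕ) (g₀ : G), g₀⁻¹ * (y : G) ^ k * g₀ ∈ (P : Subgroup G) →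
      g₀⁻¹ * (y : G) ^ k * g₀ = (y : G) ^ k := by
    intro k g₀ hg
    obtain ⟨a, ha, hay⟩ := (conj_iff hab (y ^ k) ⟨_, hg⟩).1
      (isConj_iff.2 ⟨g₀⁻¹, by simp [mul_assoc]⟩)
    have h1 : a (y ^ k) = y ^ k := by rw [map_pow, h a ha]
    rw [h1] at hay
    exact (congrArg Subtype.val hay).symm.trans (by simp)
  set τ : G →* (P : Subgroup G) := MonoidHom.transfer (MonoidHom.id (P : Subgroup G)) with hτ
  have hy : τ (y : G) = y ^ (P : Subgroup G).index := by
    rw [hτ, MonoidHom.transfer_eq_pow _ _ key]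
    exact Subtype.ext (by simp)
  rcases (IsSimpleGroup.eq_bot_or_eq_top_of_normal _ (τ.normal_ker)) with hk | hk
  · exfalso
    refine hna ⟨⟨fun a b => (MonoidHom.ker_eq_bot_iff τ).1 hk ?_⟩⟩
    rw [map_mul, map_mul, mul_comm]
  · have h0 : y ^ (P : Subgroup G).index = 1 := by
      rw [← hy]
      exact MonoidHom.mem_ker.1 (hk ▸ Subgroup.mem_top _)
    obtain ⟨n, hn⟩ := IsPGroup.iff_card.1 P.2
    have h1 : orderOf y ∣ 3 ^ n := hn ▸ orderOf_dvd_natCard _
    exact orderOf_eq_one_iff.1 (Nat.eq_one_of_dvd_coprimes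
      (((Nat.prime_three.coprime_iff_not_dvd).2 P.not_dvd_index).pow_left n) h1
      (orderOf_dvd_of_pow_eq_one h0))

theorem eq_one_of_inv_eq (hP : Nat.card (P : Subgroup G) = 9) {y : (P : Subgroup G)}
    (h : y⁻¹ = y) : y = 1 := by
  have h2 : y ^ 2 = 1 := by rw [pow_two]; nth_rw 1 [← h]; exact inv_mul_cancel y
  have h9 : y ^ 9 = 1 := hP ▸ pow_card_eq_one'
  calc y = y ^ 9 * ((y ^ 2) ^ 4)⁻¹ := by group
    _ = 1 := by rw [h2, h9]; simp

/-- An action by powers ±1 on every element is inversion. -/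
theorem invCase_of_sign (hna : ¬ IsMulCommutative G) (hP : Nat.card (P : Subgroup G) = 9)
    (hs : ∀ a ∈ autE P, ∀ y : (P : Subgroup G), a y = y ∨ a y = y⁻¹) : InvCase P := by
  have hab := comm_of_card hP
  have hc : ∀ x z : (P : Subgroup G), x * z = z * x := fun x z => hab.is_comm.comm x z
  have hall : ∀ a ∈ autE P, a ≠ 1 → ∀ y : (P : Subgroup G), a y = y⁻¹ := by
    intro a ha hne y
    by_cases hy1 : y = 1
    · rw [hy1, map_one, inv_one]
    refine (hs a ha y).resolve_left fun hy => ?_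
    obtain ⟨z, hz⟩ : ∃ z, a z ≠ z := by
      by_contra! hcon
      exact hne (MulEquiv.ext hcon)
    have hz' := (hs a ha z).resolve_left hz
    rcases hs a ha (y * z) with h | h <;> rw [map_mul, hy, hz'] at h
    · exact hz (by rw [hz']; exact mul_left_cancel h)
    · rw [mul_inv_rev, hc z⁻¹ y⁻¹] at h
      exact hy1 (eq_one_of_inv_eq hP (mul_right_cancel h).symm)
  refine ⟨hab, fun y y' => ?_, fun y hy n hn hny => free_of_autE (fun a ha h => ?_) hn hny⟩
  · rw [conj_iff hab]
    constructor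
    · rintro ⟨a, ha, rfl⟩
      exact hs a ha y
    · rintro (rfl | rfl)
      · exact ⟨1, one_mem _, rfl⟩
      · by_cases hy : y = 1
        · exact ⟨1, one_mem _, by simp [hy]⟩
        obtain ⟨a, ha, hay⟩ : ∃ a ∈ autE P, a y ≠ y := by
          by_contra! hcon
          exact hy (eq_one_of_fixed hna hab y hcon)
        exact ⟨a, ha, (hs a ha y).resolve_left hay⟩
  · by_contra hne
    exact hy (eq_one_of_inv_eq hP ((hall a ha hne y).symm.trans h))

/-- A cyclic Sylow subgroup of order nine is inverted. -/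
theorem sign_of_cyclic (hab : IsMulCommutative (P : Subgroup G))
    (hP : Nat.card (P : Subgroup G) = 9) {g : (P : Subgroup G)} (hg : orderOf g = 9) :
    ∀ a ∈ autE P, ∀ y : (P : Subgroup G), a y = y ∨ a y = y⁻¹ := by
  intro a ha
  have hgen : ∀ y : (P : Subgroup G), ∃ k : ℕ, g ^ k = y := by
    intro y
    have h : y ∈ Subgroup.zpowers g := by
      rw [(Subgroup.card_eq_iff_eq_top (Subgroup.zpowers g)).1 (by rw [Nat.card_zpowers, hg, hP])]
      exact Subgroup.mem_top _
    exact Submonoid.mem_powers_iff _ _ |>.1 (mem_powers_iff_mem_zpowers.2 h)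
  obtain ⟨k, hk⟩ := hgen (a g)
  have hpow : ∀ n : ℕ, (a ^ n) g = g ^ (k ^ n) := by
    intro n
    induction n with
    | zero => simp
    | succ n ih => rw [pow_succ', MulAut.mul_apply, ih, map_pow, ← hk, ← pow_mul, pow_succ',]
  have h1 := hpow (Nat.card (autE P))
  rw [pow_autE a ha, MulAut.one_apply] at h1
  have h2 : (k : ZMod 9) ^ Nat.card (autE P) = 1 := by
    have h3 : g ^ (k ^ Nat.card (autE P)) = g ^ 1 := by rw [pow_one]; exact h1.symm
    rw [pow_eq_pow_iff_modEq, hg, ← ZMod.natCast_eq_natCast_iff] at h3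
    exact_mod_cast h3
  have hcop := coprime_autE hab
  have hne : Nat.card (autE P) ≠ 0 := Nat.card_pos.ne'
  have h6 : (k : ZMod 9) ^ 6 = 1 := by
    have hu : IsUnit (k : ZMod 9) := (isUnit_pow_iff hne).1 (h2 ▸ isUnit_one)
    have : ∀ x : ZMod 9, x * x * x * x * x * x = 1 ∨ x = 0 ∨ x = 3 ∨ x = 6 := by decide
    rcases this (k : ZMod 9) with h | h | h | h
    · rw [← h]; ring
    all_goals
      rw [h] at hu
      exact absurd hu (by decide)
  have h4 := (pow_gcd_eq_one (a := (k : ZMod 9))).2 ⟨h2, h6⟩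
  have hg2 : (Nat.card (autE P)).gcd 6 ∣ 2 := by
    have hd : (Nat.card (autE P)).gcd 6 ∣ 3 * 2 := Nat.gcd_dvd_right _ _
    refine Nat.Coprime.dvd_of_dvd_mul_left ?_ hd
    exact ((Nat.prime_three.coprime_iff_not_dvd).2
      fun h => hcop (h.trans (Nat.gcd_dvd_left _ _))).symm
  have hsq : (k : ZMod 9) ^ 2 = 1 := by
    obtain ⟨c, hc⟩ := hg2
    rw [hc, pow_mul, h4, one_pow]
  have hk' : (k : ZMod 9) = 1 ∨ (k : ZMod 9) = -1 := by
    have : ∀ x : ZMod 9, x ^ 2 = 1 → x = 1 ∨ x = -1 := by decide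
    exact this _ hsq
  intro y
  obtain ⟨m, rfl⟩ := hgen y
  rw [map_pow, ← hk]
  rcases hk' with h | h
  · left
    congr 1
    conv_rhs => rw [← pow_one g]
    rw [pow_eq_pow_iff_modEq, hg, ← ZMod.natCast_eq_natCast_iff]
    simpa using h
  · right
    rw [← inv_pow]
    congr 1
    refine eq_inv_of_mul_eq_one_left ?_
    rw [← pow_succ, ← orderOf_dvd_iff_pow_eq_one, hg, ← ZMod.natCast_eq_zero_iff]
    push_cast
    rw [h]
    ring

section

omit [IsSimpleGroup G]

variable {e f : (P : Subgroup G)}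

theorem pow_val_add {x : (P : Subgroup G)} (hx : x ^ 3 = 1) (i j : ZMod 3) :
    x ^ (i + j).val = x ^ i.val * x ^ j.val := by
  rw [← pow_add, ZMod.val_add]
  conv_rhs => rw [← Nat.mod_add_div (i.val + j.val) 3, pow_add, pow_mul, hx, one_pow, mul_one]

theorem pt_add (hab : IsMulCommutative (P : Subgroup G)) (he : e ^ 3 = 1) (hf : f ^ 3 = 1)
    (i j k l : ZMod 3) : pt P e f (i + k) (j + l) = pt P e f i j * pt P e f k l := by
  have hc : ∀ x z : (P : Subgroup G), x * z = z * x := fun x z => hab.is_comm.comm x z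
  simp only [pt, pow_val_add he, pow_val_add hf, mul_assoc]
  rw [← mul_assoc (e ^ k.val), hc (e ^ k.val) (f ^ j.val), mul_assoc]

theorem pt_zero : pt P e f 0 0 = 1 := by simp [pt]

theorem pt_neg (hab : IsMulCommutative (P : Subgroup G)) (he : e ^ 3 = 1) (hf : f ^ 3 = 1)
    (i j : ZMod 3) : pt P e f (-i) (-j) = (pt P e f i j)⁻¹ := by
  refine eq_inv_of_mul_eq_one_left ?_
  rw [← pt_add hab he hf, neg_add_cancel, neg_add_cancel, pt_zero]

theorem pt_one_zero : pt P e f 1 0 = e := by simp [pt, ZMod.val_one]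

theorem pt_zero_one : pt P e f 0 1 = f := by simp [pt, ZMod.val_one]

theorem pt_bijective (hab : IsMulCommutative (P : Subgroup G))
    (hP : Nat.card (P : Subgroup G) = 9) (he : e ^ 3 = 1) (hf : f ^ 3 = 1) (he1 : e ≠ 1)
    (hfe : ∀ i : ZMod 3, f ≠ e ^ i.val) :
    Function.Bijective fun t : ZMod 3 × ZMod 3 => pt P e f t.1 t.2 := by
  rw [Nat.bijective_iff_injective_and_card]
  refine ⟨?_, by rw [Nat.card_prod, Nat.card_zmod, hP]⟩
  have h0 : ∀ i j : ZMod 3, pt P e f i j = 1 → i = 0 ∧ j = 0 := by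
    intro i j h
    have hj : j = 0 := by
      by_contra hj
      refine hfe (-i * j) ?_
      have h' : pt P e f (i * j) 1 = 1 := by
        have hcases : j = 1 ∨ j = -1 := (zmod_three_cases j).resolve_left hj
        rcases hcases with rfl | rfl
        · rwa [mul_one]
        · rw [mul_neg, mul_one, ← neg_neg (1 : ZMod 3), pt_neg hab he hf, h, inv_one]
      rw [pt, ZMod.val_one, pow_one] at h'
      rw [neg_mul, eq_inv_of_mul_eq_one_right h']
      refine (eq_inv_of_mul_eq_one_left ?_).symm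
      rw [← pow_val_add he, neg_add_cancel, ZMod.val_zero, pow_zero]
    subst hj
    refine ⟨?_, rfl⟩
    by_contra hi
    simp only [pt, ZMod.val_zero, pow_zero, mul_one] at h
    have ho : orderOf e = 3 := orderOf_eq_prime he he1
    have hd := orderOf_dvd_of_pow_eq_one h
    rw [ho] at hd
    exact hi ((ZMod.val_eq_zero i).1 (Nat.eq_zero_of_dvd_of_lt hd (ZMod.val_lt i)))
  rintro ⟨i, j⟩ ⟨k, l⟩ h
  simp only at h
  obtain ⟨h1, h2⟩ := h0 (i + -k) (j + -l) (by
    rw [pt_add hab he hf, pt_neg hab he hf, h, mul_inv_cancel])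
  rw [← sub_eq_add_neg, sub_eq_zero] at h1 h2
  rw [h1, h2]

theorem map_pt (hab : IsMulCommutative (P : Subgroup G)) (a : MulAut (P : Subgroup G))
    (i j : ZMod 3) : a (pt P e f i j) = (a e) ^ i.val * (a f) ^ j.val := by
  simp [pt, map_mul, map_pow]

end

/-- An action which is not by signs, with three classes, fixes two coordinates up to sign. -/
theorem fourCase_of_not_sign (hna : ¬ IsMulCommutative G) (hP : Nat.card (P : Subgroup G) = 9)
    (hexp : ∀ y : (P : Subgroup G), y ^ 3 = 1)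
    (hns : ∃ a ∈ autE P, ∃ y : (P : Subgroup G), a y ≠ y ∧ a y ≠ y⁻¹)
    (h3 : ∃ a b c : (P : Subgroup G), a ≠ 1 ∧ b ≠ 1 ∧ c ≠ 1 ∧ ¬ IsConj (a : G) (b : G) ∧
      ¬ IsConj (a : G) (c : G) ∧ ¬ IsConj (b : G) (c : G)) :
    ∃ e f : (P : Subgroup G), FourCase P e f := by
  letI := Fintype.ofFinite (P : Subgroup G)
  have hab := comm_of_card hP
  have hc : ∀ x z : (P : Subgroup G), x * z = z * x := fun x z => hab.is_comm.comm x z
  -- an element with a small orbit
  obtain ⟨y, hy1, hy⟩ : ∃ y : (P : Subgroup G), y ≠ 1 ∧ ∀ a ∈ autE P, a y = y ∨ a y = y⁻¹ := by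
    let O : ↥(P : Subgroup G) → Finset ↥(P : Subgroup G) := fun y =>
      Finset.univ.filter fun y' => IsConj (y : G) (y' : G)
    obtain ⟨u, v, w, hu, hv, hw, huv, huw, hvw⟩ := h3
    have hsub : ∀ x : (P : Subgroup G), x ≠ 1 → O x ⊆ Finset.univ.erase 1 := by
      intro x hx z hz
      refine Finset.mem_erase.2 ⟨?_, Finset.mem_univ _⟩
      rintro rfl
      have h := (Finset.mem_filter.1 hz).2
      rw [Subgroup.coe_one] at h
      exact hx (Subtype.ext (isConj_one_left.1 h))
    have hdis : ∀ x z : (P : Subgroup G), ¬ IsConj (x : G) (z : G) → Disjoint (O x) (O z) := by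
      intro x z h
      rw [Finset.disjoint_left]
      intro t h1 h2
      exact h ((Finset.mem_filter.1 h1).2.trans (Finset.mem_filter.1 h2).2.symm)
    have htot : (O u).card + (O v).card + (O w).card ≤ 8 := by
      have h8 : (Finset.univ.erase (1 : (P : Subgroup G))).card = 8 := by
        rw [Finset.card_erase_of_mem (Finset.mem_univ _), Finset.card_univ,
          ← Nat.card_eq_fintype_card, hP]
      rw [← h8, ← Finset.card_union_of_disjoint (hdis u v huv),
        ← Finset.card_union_of_disjoint (Finset.disjoint_union_left.2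
          ⟨hdis u w huw, hdis v w hvw⟩)]
      exact Finset.card_le_card (Finset.union_subset
        (Finset.union_subset (hsub u hu) (hsub v hv)) (hsub w hw))
    obtain ⟨x, hx, hx2⟩ : ∃ x : (P : Subgroup G), x ≠ 1 ∧ (O x).card ≤ 2 := by
      by_contra! hcon
      have h1 := hcon u hu
      have h2 := hcon v hv
      have h3 := hcon w hw
      omega
    refine ⟨x, hx, ?_⟩
    obtain ⟨a₀, ha₀, hax⟩ : ∃ a ∈ autE P, a x ≠ x := by
      by_contra! hcon
      exact hx (eq_one_of_fixed hna hab x hcon)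
    set z := a₀ x with hz
    have hxz : ({x, z} : Finset (P : Subgroup G)) ⊆ O x := by
      intro t ht
      refine Finset.mem_filter.2 ⟨Finset.mem_univ _, ?_⟩
      rcases Finset.mem_insert.1 ht with rfl | ht
      · exact IsConj.refl _
      · rw [Finset.mem_singleton.1 ht]
        exact (conj_iff hab _ _).2 ⟨a₀, ha₀, rfl⟩
    have hO : O x = {x, z} := (Finset.eq_of_subset_of_card_le hxz (by
      rw [Finset.card_pair (Ne.symm hax)]; exact hx2)).symm
    have hmem : ∀ a ∈ autE P, ∀ t : (P : Subgroup G), IsConj (x : G) (t : G) → a t = x ∨ a t = z := by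
      intro a ha t ht
      have h1 : a t ∈ O x := Finset.mem_filter.2
        ⟨Finset.mem_univ _, ht.trans ((conj_iff hab _ _).2 ⟨a, ha, rfl⟩)⟩
      simpa [hO] using h1
    have hfix : ∀ a ∈ autE P, a (x * z) = x * z := by
      intro a ha
      have h1 := hmem a ha x (IsConj.refl _)
      have h2 := hmem a ha z ((conj_iff hab _ _).2 ⟨a₀, ha₀, rfl⟩)
      have h3 : a x ≠ a z := fun h => hax (a.injective h).symm
      rw [map_mul]
      rcases h1 with h1 | h1 <;> rcases h2 with h2 | h2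
      · exact absurd (h1.trans h2.symm) h3
      · rw [h1, h2]
      · rw [h1, h2, hc]
      · exact absurd (h1.trans h2.symm) h3
    have hzinv : z = x⁻¹ := eq_inv_of_mul_eq_one_right (eq_one_of_fixed hna hab _ hfix)
    intro a ha
    rw [← hzinv]
    exact hmem a ha x (IsConj.refl _)
  -- the induced automorphisms are involutions
  have hinv : ∀ a ∈ autE P, a * a = 1 := by
    intro a ha
    obtain ⟨x, hx⟩ : ∃ x : (P : Subgroup G), ∀ i : ZMod 3, x ≠ y ^ i.val := by
      by_contra! hcon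
      have h9 := Nat.card_le_card_of_surjective (fun i : ZMod 3 => y ^ i.val)
        (fun x => by obtain ⟨i, hi⟩ := hcon x; exact ⟨i, hi.symm⟩)
      rw [hP, Nat.card_zmod] at h9
      omega
    have hbij := pt_bijective hab hP (hexp y) (hexp x) hy1 hx
    obtain ⟨⟨α, β⟩, hαβ⟩ := hbij.2 (a x)
    obtain ⟨ε, hε, hay⟩ : ∃ ε : ZMod 3, (ε = 1 ∨ ε = -1) ∧ a y = pt P y x ε 0 := by
      rcases hy a ha with h | h
      · exact ⟨1, Or.inl rfl, h.trans pt_one_zero.symm⟩
      · refine ⟨-1, Or.inr rfl, h.trans ?_⟩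
        rw [← neg_zero (G := ZMod 3), pt_neg hab (hexp y) (hexp x), pt_one_zero]
    simp only at hαβ
    have hmap : ∀ i j : ZMod 3, a (pt P y x i j) = pt P y x (ε * i + α * j) (β * j) := by
      have hnat : ∀ (n : ℕ) (i j : ZMod 3),
          (pt P y x i j) ^ n = pt P y x (n * i) (n * j) := by
        intro n i j
        induction n with
        | zero => simp [pt_zero]
        | succ n ih =>
          rw [pow_succ, ih, ← pt_add hab (hexp y) (hexp x)]
          push_cast
          ring_nf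
      intro i j
      rw [map_pt hab, hay, ← hαβ, hnat, hnat, ← pt_add hab (hexp y) (hexp x)]
      simp only [ZMod.natCast_zmod_val]
      ring_nf
    have hβ : β ≠ 0 := by
      intro hβ
      have h := hmap (-ε * α) 1
      have hεε : ε * ε = 1 := by rcases hε with rfl | rfl <;> decide
      rw [hβ, mul_one, zero_mul, show ε * (-ε * α) + α = 0 by
        linear_combination (-α) * hεε, pt_zero, map_eq_one_iff a a.injective] at h
      have := hbij.1 (a₁ := (-ε * α, 1)) (a₂ := (0, 0)) (h.trans pt_zero.symm)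
      exact one_ne_zero (congrArg Prod.snd this)
    have hsq : ∀ i j : ZMod 3, (a * a) (pt P y x i j) = pt P y x (i + (ε + β) * α * j) j := by
      intro i j
      rw [MulAut.mul_apply, hmap, hmap]
      have hεε : ε * ε = 1 := by rcases hε with rfl | rfl <;> decide
      have hββ : β * β = 1 := zmod_three_sq β hβ
      congr 1
      · linear_combination i * hεε
      · linear_combination j * hββ
    have hpow : ∀ n : ℕ, ((a * a) ^ n) x = pt P y x (n * ((ε + β) * α)) 1 := by
      intro n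
      induction n with
      | zero => simp [pt_zero_one]
      | succ n ih =>
        rw [pow_succ', MulAut.mul_apply, ih, hsq]
        push_cast
        ring_nf
    have hd := hpow (Nat.card (autE P))
    rw [pow_autE _ (mul_mem ha ha), MulAut.one_apply] at hd
    have hd' := hbij.1 (a₁ := (0, 1)) (a₂ := ((Nat.card (autE P) : ZMod 3) * ((ε + β) * α), 1))
      (pt_zero_one.trans hd)
    have h0 : (ε + β) * α = 0 := by
      refine (mul_eq_zero.1 (congrArg Prod.fst hd').symm).resolve_left fun h => ?_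
      exact coprime_autE hab ((ZMod.natCast_eq_zero_iff _ _).1 h)
    refine MulEquiv.ext fun w => ?_
    obtain ⟨⟨i, j⟩, rfl⟩ := hbij.2 w
    simp only [hsq, h0, zero_mul, add_zero, MulAut.one_apply]
  -- coordinates
  obtain ⟨a, ha, w, hw, hw'⟩ := hns
  have haa : ∀ z, a (a z) = z := fun z => by
    rw [← MulAut.mul_apply, hinv a ha, MulAut.one_apply]
  set e := a w * w⁻¹ with hedef
  set f := a w * w with hfdef
  have hae : a e = e⁻¹ := by rw [hedef, map_mul, map_inv, haa, mul_inv_rev, inv_inv]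
  have haf : a f = f := by rw [hfdef, map_mul, haa, hc]
  have he1 : e ≠ 1 := fun h => hw (mul_inv_eq_one.1 h)
  have hf1 : f ≠ 1 := fun h => hw' (eq_inv_of_mul_eq_one_left h)
  have hfe : ∀ i : ZMod 3, f ≠ e ^ i.val := by
    intro i h
    refine hf1 (eq_one_of_inv_eq hP ?_)
    rw [h, ← inv_pow, ← hae, ← map_pow, ← h, haf]
  have hbij := pt_bijective hab hP (hexp e) (hexp f) he1 hfe
  have hne1 : pt P e f (-1) 0 = e⁻¹ := by
    rw [← neg_zero (G := ZMod 3), pt_neg hab (hexp e) (hexp f), pt_one_zero]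
  have hnf1 : pt P e f 0 (-1) = f⁻¹ := by
    rw [← neg_zero (G := ZMod 3), pt_neg hab (hexp e) (hexp f), pt_zero_one]
  have hneg : ∀ i j : ZMod 3, e⁻¹ ^ i.val * f ^ j.val = pt P e f (-i) j := by
    intro i j
    rw [pt, inv_pow]
    congr 1
    refine (eq_inv_of_mul_eq_one_left ?_).symm
    rw [← pow_val_add (hexp e), neg_add_cancel, ZMod.val_zero, pow_zero]
  have hneg' : ∀ i j : ZMod 3, e ^ i.val * f⁻¹ ^ j.val = pt P e f i (-j) := by
    intro i j
    rw [pt, inv_pow]
    congr 1
    refine (eq_inv_of_mul_eq_one_left ?_).symm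
    rw [← pow_val_add (hexp f), neg_add_cancel, ZMod.val_zero, pow_zero]
  have hapt : ∀ i j : ZMod 3, a (pt P e f i j) = pt P e f (-i) j := fun i j => by
    rw [map_pt hab, hae, haf, hneg]
  have himg : ∀ b ∈ autE P, (b e = e ∨ b e = e⁻¹) ∧ (b f = f ∨ b f = f⁻¹) := by
    intro b hb
    have hcomm : ∀ z, a (b z) = b (a z) := by
      intro z
      have h1 := hinv (a * b) (mul_mem ha hb)
      have h2 : a * b = b * a := by
        calc a * b = (a * b)⁻¹ := eq_inv_of_mul_eq_one_left h1
          _ = b⁻¹ * a⁻¹ := mul_inv_rev a b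
          _ = b * a := by
            rw [← eq_inv_of_mul_eq_one_left (hinv a ha), ← eq_inv_of_mul_eq_one_left (hinv b hb)]
      exact DFunLike.congr_fun h2 z
    have hpm : ∀ i : ZMod 3, i = 0 ∨ i = 1 ∨ i = -1 := zmod_three_cases
    constructor
    · obtain ⟨⟨i, j⟩, hij⟩ := hbij.2 (b e)
      simp only at hij
      have h1 := hapt i j
      rw [hij, hcomm, hae, map_inv, ← hij, ← pt_neg hab (hexp e) (hexp f)] at h1
      have hj : -j = j := congrArg Prod.snd (hbij.1 (a₁ := (-i, -j)) (a₂ := (-i, j)) h1)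
      have hj0 : j = 0 := zmod_three_neg j hj
      subst hj0
      rcases hpm i with rfl | rfl | rfl
      · rw [pt_zero] at hij
        exact absurd ((map_eq_one_iff b b.injective).1 hij.symm) he1
      · exact Or.inl (hij.symm.trans pt_one_zero)
      · exact Or.inr (hij.symm.trans hne1)
    · obtain ⟨⟨i, j⟩, hij⟩ := hbij.2 (b f)
      simp only at hij
      have h1 := hapt i j
      rw [hij, hcomm, haf, ← hij] at h1
      have hi : i = -i := congrArg Prod.fst (hbij.1 (a₁ := (i, j)) (a₂ := (-i, j)) h1)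
      have hi0 : i = 0 := zmod_three_neg i hi.symm
      subst hi0
      rcases hpm j with rfl | rfl | rfl
      · rw [pt_zero] at hij
        exact absurd ((map_eq_one_iff b b.injective).1 hij.symm) hf1
      · exact Or.inl (hij.symm.trans pt_zero_one)
      · exact Or.inr (hij.symm.trans hnf1)
  obtain ⟨s, hs, hse, hsf⟩ : ∃ s ∈ autE P, s e = e ∧ s f = f⁻¹ := by
    obtain ⟨b, hb, hbf⟩ : ∃ b ∈ autE P, b f ≠ f := by
      by_contra! hcon
      exact hf1 (eq_one_of_fixed hna hab f hcon)
    obtain ⟨h1, h2⟩ := himg b hb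
    have h2 := h2.resolve_left hbf
    rcases h1 with h1 | h1
    · exact ⟨b, hb, h1, h2⟩
    · exact ⟨a * b, mul_mem ha hb, by rw [MulAut.mul_apply, h1, map_inv, hae, inv_inv],
        by rw [MulAut.mul_apply, h2, map_inv, haf]⟩
  have hspt : ∀ i j : ZMod 3, s (pt P e f i j) = pt P e f i (-j) := fun i j => by
    rw [map_pt hab, hse, hsf, hneg']
  refine ⟨e, f, hab, hexp e, hexp f, hbij, fun i j k l => ?_, fun i j hi hj n hn hny =>
    free_of_autE (fun b hb hfix => ?_) hn hny⟩
  · rw [conj_iff hab]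
    constructor
    · rintro ⟨b, hb, hbk⟩
      obtain ⟨h1, h2⟩ := himg b hb
      have hb' : b (pt P e f i j) = e ^ i.val * f ^ j.val ∨
          b (pt P e f i j) = e⁻¹ ^ i.val * f ^ j.val ∨
          b (pt P e f i j) = e ^ i.val * f⁻¹ ^ j.val ∨
          b (pt P e f i j) = e⁻¹ ^ i.val * f⁻¹ ^ j.val := by
        rw [map_pt hab]
        rcases h1 with h1 | h1 <;> rcases h2 with h2 | h2 <;> simp [h1, h2]
      rw [hbk] at hb'
      rcases hb' with h | h | h | h
      · obtain ⟨rfl, rfl⟩ := Prod.mk.inj (hbij.1 (a₁ := (k, l)) (a₂ := (i, j)) h)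
        exact ⟨Or.inl rfl, Or.inl rfl⟩
      · rw [hneg] at h
        obtain ⟨rfl, rfl⟩ := Prod.mk.inj (hbij.1 (a₁ := (k, l)) (a₂ := (-i, j)) h)
        exact ⟨Or.inr rfl, Or.inl rfl⟩
      · rw [hneg'] at h
        obtain ⟨rfl, rfl⟩ := Prod.mk.inj (hbij.1 (a₁ := (k, l)) (a₂ := (i, -j)) h)
        exact ⟨Or.inl rfl, Or.inr rfl⟩
      · rw [inv_pow, inv_pow, ← mul_inv_rev, hc, ← pt, ← pt_neg hab (hexp e) (hexp f)] at h
        obtain ⟨rfl, rfl⟩ := Prod.mk.inj (hbij.1 (a₁ := (k, l)) (a₂ := (-i, -j)) h)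
        exact ⟨Or.inr rfl, Or.inr rfl⟩
    · rintro ⟨rfl | rfl, rfl | rfl⟩
      · exact ⟨1, one_mem _, rfl⟩
      · exact ⟨s, hs, hspt _ _⟩
      · exact ⟨a, ha, hapt _ _⟩
      · exact ⟨a * s, mul_mem ha hs, by rw [MulAut.mul_apply, hspt, hapt]⟩
  · obtain ⟨h1, h2⟩ := himg b hb
    have hi' : ∀ i : ZMod 3, i ≠ 0 → -i ≠ i := by decide
    have hbe : b e = e ∧ b f = f := by
      rcases h1 with h1 | h1 <;> rcases h2 with h2 | h2
      · exact ⟨h1, h2⟩
      · rw [map_pt hab, h1, h2, hneg'] at hfix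
        exact absurd (congrArg Prod.snd (hbij.1 (a₁ := (i, -j)) (a₂ := (i, j)) hfix)) (hi' j hj)
      · rw [map_pt hab, h1, h2, hneg] at hfix
        exact absurd (congrArg Prod.fst (hbij.1 (a₁ := (-i, j)) (a₂ := (i, j)) hfix)) (hi' i hi)
      · rw [map_pt hab, h1, h2, inv_pow, inv_pow, ← mul_inv_rev, hc, ← pt,
          ← pt_neg hab (hexp e) (hexp f)] at hfix
        exact absurd (congrArg Prod.fst (hbij.1 (a₁ := (-i, -j)) (a₂ := (i, j)) hfix)) (hi' i hi)
    refine MulEquiv.ext fun z => ?_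
    obtain ⟨⟨k, l⟩, rfl⟩ := hbij.2 z
    simp only [MulAut.one_apply, pt, map_mul, map_pow, hbe.1, hbe.2]

/-- Three classes of nontrivial elements leave only inversion and the sign action. -/
theorem cases_of_three (hna : ¬ IsMulCommutative G) (hP : Nat.card (P : Subgroup G) = 9)
    (h3 : ∃ a b c : (P : Subgroup G), a ≠ 1 ∧ b ≠ 1 ∧ c ≠ 1 ∧ ¬ IsConj (a : G) (b : G) ∧
      ¬ IsConj (a : G) (c : G) ∧ ¬ IsConj (b : G) (c : G)) :
    InvCase P ∨ ∃ e f : (P : Subgroup G), FourCase P e f := by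
  by_cases hs : ∀ a ∈ autE P, ∀ y : (P : Subgroup G), a y = y ∨ a y = y⁻¹
  · exact Or.inl (invCase_of_sign hna hP hs)
  · push Not at hs
    refine Or.inr (fourCase_of_not_sign hna hP (fun y => ?_) hs h3)
    by_contra hy
    have h9 : orderOf y ∣ 3 ^ 2 := by
      have := orderOf_dvd_natCard y
      rw [hP] at this
      norm_num
      exact this
    obtain ⟨k, hk2, hk⟩ := (Nat.dvd_prime_pow Nat.prime_three).1 h9
    have hk' : k = 2 := by
      by_contra hne
      exact hy (orderOf_dvd_iff_pow_eq_one.1 (hk ▸ (pow_dvd_pow 3 (by omega : k ≤ 1))))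
    obtain ⟨a, ha, z, hz, hz'⟩ := hs
    exact (sign_of_cyclic (comm_of_card hP) hP (g := y) (by rw [hk, hk']; norm_num) a ha z).elim
      hz hz'

end Cfsg.Agent.NineSylow
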