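import Cfsg.Agent.NineSylow.Triple
import Cfsg.Agent.SmallGroups.Involution
import Cfsg.Agent.SmallGroups.DegreeThree
import Cfsg.Agent.Linear.SmallIso
import Cfsg.Agent.Char.Burnside
import Cfsg.Agent.S4488
import Cfsg.Agent.S0496
import Cfsg.Agent.S0497
import Cfsg.Agent.S0980
import Cfsg.Agent.S0997
import Cfsg.Agent.S1011
import Cfsg.Agent.S1020

/-!
# Simple groups of order `9 * 2 ^ a * q ^ b` with rational characters of consecutive degrees
-/

set_option autoImplicit false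
set_option linter.style.haveILetI false
set_option linter.unusedSectionVars false

namespace Cfsg.Agent.NineSylow

open Cfsg Cfsg.Agent

theorem dvd_of_odd {y a m : ℕ} (hy : ¬ 2 ∣ y) (h : y ∣ 2 ^ a * m) : y ∣ m :=
  (((Nat.prime_two.coprime_iff_not_dvd).2 hy).symm.pow_right a).dvd_of_dvd_mul_left h

theorem odd_parts {x y A B : ℕ} (hA : ¬ 2 ∣ A) (hB : ¬ 2 ∣ B) (h : 2 ^ x * A = 2 ^ y * B) :
    A = B :=
  Nat.dvd_antisymm (dvd_of_odd hA (h ▸ dvd_mul_left A (2 ^ x)))
    (dvd_of_odd hB (h ▸ dvd_mul_left B (2 ^ y)))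

/-- A prime power next to a power of two is prime, unless it is nine. -/
theorem exponent_one {q l u : ℕ} (hq : q.Prime) (hq2 : q ≠ 2) (hq3 : q ≠ 3) (hl : l ≠ 0)
    (h : q ^ l + 1 = 2 ^ u ∨ q ^ l = 2 ^ u + 1) : l = 1 := by
  have h5 : 5 ≤ q := by
    have := hq.two_le
    rcases (show q = 4 ∨ 5 ≤ q by omega) with rfl | h
    · norm_num at hq
    · exact h
  by_contra hl1
  rcases Nat.even_or_odd l with ⟨k, hk⟩ | hodd
  · subst hk
    have hk0 : k ≠ 0 := by omega
    obtain ⟨j, hj⟩ : Odd (q ^ k) := (hq.odd_of_ne_two hq2).pow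
    have hq5 : 5 ≤ q ^ k := le_trans h5 (Nat.le_self_pow hk0 q)
    rw [pow_add, hj] at h
    rcases h with h | h
    · rcases (show u = 0 ∨ u = 1 ∨ 2 ≤ u by omega) with rfl | rfl | hu
      · nlinarith
      · nlinarith
      · obtain ⟨c, hc⟩ := pow_dvd_pow 2 hu
        rw [hc, show (2 * j + 1) * (2 * j + 1) = 4 * (j * j + j) + 1 by ring] at h
        omega
    · have h2 : (2 * j) * (2 * j + 2) = 2 ^ u := by nlinarith
      have hd := Dvd.intro _ h2
      have hd' := Dvd.intro_left _ h2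
      obtain ⟨s, -, hs⟩ := (Nat.dvd_prime_pow Nat.prime_two).1 hd
      obtain ⟨t, -, ht⟩ := (Nat.dvd_prime_pow Nat.prime_two).1 hd'
      rcases (show s = 0 ∨ s = 1 ∨ 2 ≤ s by omega) with rfl | rfl | hs2
      · omega
      · omega
      · rcases (show t = 0 ∨ t = 1 ∨ 2 ≤ t by omega) with rfl | rfl | ht2
        · omega
        · omega
        · obtain ⟨c, hc⟩ := pow_dvd_pow 2 hs2
          obtain ⟨c', hc'⟩ := pow_dvd_pow 2 ht2
          omega
  · have hoddq := hq.odd_of_ne_two hq2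
    have hS : Odd (∑ i ∈ Finset.range l, q ^ i) := by
      rw [Finset.odd_sum_iff_odd_card_odd]
      rwa [Finset.filter_true_of_mem fun i _ => hoddq.pow, Finset.card_range]
    rcases h with h | h
    · have hd : ((q : ℤ) + 1) * ∑ i ∈ Finset.range l, (-(q : ℤ)) ^ i = (2 : ℤ) ^ u := by
        have hg := geom_sum_mul (-(q : ℤ)) l
        rw [hodd.neg_pow] at hg
        have hz : (q : ℤ) ^ l + 1 = 2 ^ u := by exact_mod_cast h
        linear_combination (norm := ring_nf) hz - hg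
      have hS2 : Odd (∑ i ∈ Finset.range l, (-(q : ℤ)) ^ i) := by
        have hneg : Odd (-(q : ℤ)) := (Int.odd_coe_nat q |>.2 hoddq).neg
        rw [Int.odd_iff, Finset.sum_int_mod,
          Finset.sum_congr rfl fun i _ => Int.odd_iff.1 (hneg.pow (n := i)), Finset.sum_const,
          Finset.card_range, nsmul_one]
        have := Nat.odd_iff.1 hodd
        push_cast
        omega
      have hn := congrArg Int.natAbs hd
      rw [Int.natAbs_mul, Int.natAbs_pow] at hn
      obtain ⟨s, -, hs⟩ := (Nat.dvd_prime_pow Nat.prime_two).1 (Dvd.intro_left _ hn)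
      rcases Nat.eq_zero_or_pos s with rfl | hs0
      · rw [hs, pow_zero, mul_one] at hn
        have hq1 : ((q : ℤ) + 1).natAbs = q + 1 := by omega
        rw [hq1, show Int.natAbs 2 = 2 from rfl, ← h] at hn
        have hlt := Nat.pow_lt_pow_right hq.one_lt (show 1 < l by omega)
        rw [pow_one] at hlt
        omega
      · have := Int.natAbs_odd.2 hS2
        rw [hs] at this
        exact Nat.not_even_iff_odd.2 this ((Nat.even_pow).2 ⟨even_two, hs0.ne'⟩)
    · have hd : (∑ i ∈ Finset.range l, q ^ i) * (q - 1) = 2 ^ u := by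
        have hg := Nat.geomSum_eq (hq.two_le) l
        have hdvd : q - 1 ∣ q ^ l - 1 := Nat.sub_one_dvd_pow_sub_one q l
        rw [hg, Nat.div_mul_cancel hdvd]
        exact Nat.sub_eq_of_eq_add h
      obtain ⟨s, -, hs⟩ := (Nat.dvd_prime_pow Nat.prime_two).1 (Dvd.intro _ hd)
      rcases Nat.eq_zero_or_pos s with rfl | hs0
      · rw [hs, pow_zero, one_mul] at hd
        have hlt := Nat.pow_lt_pow_right hq.one_lt (show 1 < l by omega)
        rw [pow_one] at hlt
        omega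
      · rw [hs] at hS
        exact Nat.not_even_iff_odd.2 hS ((Nat.even_pow).2 ⟨even_two, hs0.ne'⟩)

/-- Consecutive divisors of `2 ^ a * q ^ b`. -/
theorem consecutive {q a b d e : ℕ} (hq : q.Prime) (hq2 : q ≠ 2) (hq3 : q ≠ 3)
    (hd : d ∣ 2 ^ a * q ^ b) (he : e ∣ 2 ^ a * q ^ b) (hd1 : 1 < d) (he1 : 1 < e)
    (h : d = e + 1 ∨ e = d + 1) (ho : ¬ 2 ∣ e) :
    e = q ∧ ∃ u, d = 2 ^ u ∧ (q + 1 = 2 ^ u ∨ q = 2 ^ u + 1) := by
  obtain ⟨l, -, rfl⟩ := (Nat.dvd_prime_pow hq).1 (dvd_of_odd ho he)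
  have hl : l ≠ 0 := by rintro rfl; norm_num at he1
  have hqd : ¬ q ∣ d := fun hqd => by
    have hql : q ∣ q ^ l := dvd_pow_self q hl
    have : q ∣ 1 := by
      rcases h with h | h
      · exact (Nat.dvd_add_right hql).1 (h ▸ hqd)
      · exact (Nat.dvd_add_right hqd).1 (h ▸ hql)
    exact hq.one_lt.ne' (Nat.dvd_one.1 this)
  obtain ⟨u, -, rfl⟩ := (Nat.dvd_prime_pow Nat.prime_two).1
    (((hq.coprime_iff_not_dvd.2 hqd).symm.pow_right b).dvd_of_dvd_mul_right hd)
  have hl1 := exponent_one hq hq2 hq3 hl (u := u) (by omega)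
  subst hl1
  rw [pow_one] at h ⊢
  exact ⟨rfl, u, rfl, by omega⟩

universe u

variable {G : Type u} [Group G] [Finite G] [IsSimpleGroup G]

theorem exponent_le (hna : ¬ IsMulCommutative G) {p n : ℕ} (hp : p.Prime) {X : IrrCharacter G}
    (hX : (X : G → ℂ) ≠ fun _ => 1) (hn : (X : G → ℂ) 1 = n)
    (hint : ∀ g : G, ∃ k : ℤ, (X : G → ℂ) g = k) :
    (Nat.card G).factorization p ≤ ∑ i ∈ Finset.range (n + 1), n / ((p - 1) * p ^ i) :=
  S4488.result p hp _ (Char.isCharacter_of_irr X.2) (SmallGroups.DegThree.faithful hna X.2 hX).1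
    ⟨1, one_pos, fun h => hp.one_lt.ne' (Nat.dvd_one.1 h), fun g => by
      obtain ⟨k, hk⟩ := hint g
      rw [hk]
      exact intCast_mem _ k⟩
    n (Char.charDegree_of_eq hn)

theorem exists_char_data (hna : ¬ IsMulCommutative G) {q a b : ℕ} (hq : q.Prime) (hq2 : q ≠ 2)
    (hq3 : q ≠ 3) (hcard : Nat.card G = 9 * 2 ^ a * q ^ b) (h : GoodPair G) :
    ∃ (X Z : IrrCharacter G) (v : ℕ), (X : G → ℂ) ≠ (fun _ => 1) ∧ (Z : G → ℂ) ≠ (fun _ => 1) ∧
      (X : G → ℂ) 1 = q ∧ (Z : G → ℂ) 1 = (2 ^ v : ℕ) ∧ (q + 1 = 2 ^ v ∨ q = 2 ^ v + 1) ∧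
      (∀ g : G, ∃ n : ℤ, (X : G → ℂ) g = n) ∧ ∀ g : G, ∃ n : ℤ, (Z : G → ℂ) g = n := by
  obtain ⟨X, Z, d, e, hX, hZ, hd, he, hde, hd3, he3, hiX, hiZ⟩ := h
  have hdiv : ∀ (Y : IrrCharacter G) (n : ℕ), (Y : G → ℂ) ≠ (fun _ => 1) → (Y : G → ℂ) 1 = n →
      ¬ 3 ∣ n → 1 < n ∧ n ∣ 2 ^ a * q ^ b := by
    intro Y n hY hn h3
    refine ⟨Char.charDegree_of_eq hn ▸ (SmallGroups.DegThree.faithful hna Y.2 hY).2, ?_⟩
    obtain ⟨n', -, hn', hdvd⟩ := Char.irr_degree_dvd_card Y.2
    have : n' = n := by exact_mod_cast hn'.symm.trans hn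
    subst this
    rw [hcard, mul_assoc, show (9 : ℕ) = 3 ^ 2 by norm_num] at hdvd
    exact (((Nat.prime_three.coprime_iff_not_dvd).2 h3).symm.pow_right 2).dvd_of_dvd_mul_left hdvd
  obtain ⟨hd1, hdd⟩ := hdiv X d hX hd hd3
  obtain ⟨he1, hed⟩ := hdiv Z e hZ he he3
  by_cases ho : 2 ∣ e
  · obtain ⟨rfl, v, rfl, hv⟩ := consecutive hq hq2 hq3 hed hdd he1 hd1 hde.symm (by omega)
    exact ⟨X, Z, v, hX, hZ, hd, he, hv, hiX, hiZ⟩
  · obtain ⟨rfl, v, rfl, hv⟩ := consecutive hq hq2 hq3 hdd hed hd1 he1 hde ho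
    exact ⟨Z, X, v, hZ, hX, he, hd, hv, hiZ, hiX⟩

theorem exponent_eq_one (hna : ¬ IsMulCommutative G) {q a b : ℕ} (hq : q.Prime) (hq2 : q ≠ 2)
    (hq3 : q ≠ 3) (hcard : Nat.card G = 9 * 2 ^ a * q ^ b) {X : IrrCharacter G}
    (hX : (X : G → ℂ) ≠ fun _ => 1) (hn : (X : G → ℂ) 1 = q)
    (hint : ∀ g : G, ∃ k : ℤ, (X : G → ℂ) g = k) : b = 1 := by
  have hb : b ≠ 0 := by
    rintro rfl
    have := Char.solvable_of_card_eq_pow_mul_pow 3 2 Nat.prime_three Nat.prime_two _ hcard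
      fun r hr hd => by
        rw [pow_zero, mul_one, show (9 : ℕ) = 3 ^ 2 by norm_num] at hd
        rcases hr.dvd_mul.1 hd with hd | hd
        · exact .inl ((Nat.prime_dvd_prime_iff_eq hr Nat.prime_three).1 (hr.dvd_of_dvd_pow hd))
        · exact .inr ((Nat.prime_dvd_prime_iff_eq hr Nat.prime_two).1 (hr.dvd_of_dvd_pow hd))
    exact hna ⟨⟨IsSimpleGroup.comm_iff_isSolvable.2 this⟩⟩
  have h := exponent_le hna hq hX hn hint
  have h5 : 3 ≤ q := by have := hq.two_le; omega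
  have hle : ∑ i ∈ Finset.range (q + 1), q / ((q - 1) * q ^ i) ≤ 1 := by
    rw [Finset.sum_eq_single 0]
    · rw [pow_zero, mul_one]
      exact (Nat.div_lt_iff_lt_mul (by omega)).2 (by omega) |> Nat.lt_succ_iff.1
    · intro i _ hi
      refine Nat.div_eq_of_lt ?_
      calc q < (q - 1) * q := by nlinarith [Nat.sub_add_cancel (show 1 ≤ q by omega)]
        _ ≤ (q - 1) * q ^ i := Nat.mul_le_mul_left _ (Nat.le_self_pow hi q)
    · simp
  have hfac : (Nat.card G).factorization q = b := by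
    have h9 : ¬ q ∣ 9 * 2 ^ a := fun hd => by
      rcases hq.dvd_mul.1 hd with hd | hd
      · exact hq3 ((Nat.prime_dvd_prime_iff_eq hq Nat.prime_three).1
          (hq.dvd_of_dvd_pow (show q ∣ 3 ^ 2 from hd)))
      · exact hq2 ((Nat.prime_dvd_prime_iff_eq hq Nat.prime_two).1 (hq.dvd_of_dvd_pow hd))
    rw [hcard, Nat.factorization_mul (by positivity) (pow_ne_zero _ hq.ne_zero),
      Finsupp.add_apply, Nat.factorization_eq_zero_of_not_dvd h9, hq.factorization_pow]
    simp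
  omega

/-- The cofactor bound leaves `q = 17`. -/
theorem large_case (hna : ¬ IsMulCommutative G) {q a : ℕ} (hq : q.Prime) (hq11 : 11 ≤ q)
    (hcard : Nat.card G = 9 * 2 ^ a * q) :
    Nonempty (G ≃* Matrix.ProjectiveSpecialLinearGroup (Fin 2) (ZMod 17)) := by
  have hodd : ¬ 2 ∣ q := fun h => by
    have := (Nat.prime_dvd_prime_iff_eq Nat.prime_two hq).1 h
    omega
  rcases S0997.result (G := G) (fun hc => hna ⟨⟨hc.commGroup.mul_comm⟩⟩) q 2 a 9 hq Nat.prime_two
      (by omega) (by rw [hcard]; ring) (by omega) with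
    ⟨m, F, i1, i2, hF, hm, ⟨e⟩⟩ | ⟨m, F, i1, i2, hF, hm, -, ⟨e⟩⟩
  · have h := Linear.card_PSL_two_of_odd (F := F)
      (by rw [hF, Nat.odd_iff]; omega)
    rw [← Nat.card_congr e.toEquiv, hF, hcard] at h
    have h' : (q - 1) * (q + 1) = 2 ^ (a + 1) * 9 := by
      refine Nat.eq_of_mul_eq_mul_left hq.pos ?_
      rw [pow_succ]
      linarith
    obtain ⟨m, rfl⟩ : ∃ k, m = k + 2 := ⟨m - 2, by
      rcases (show m = 0 ∨ m = 1 ∨ 2 ≤ m by omega) with rfl | rfl | h2
      · norm_num at hm; omega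
      · norm_num at hm; omega
      · omega⟩
    rcases hm with rfl | hm
    · have h9 : 2 ^ (m + 1) + 1 = 9 := by
        refine odd_parts (x := m + 3) (y := a + 1) ?_ (by norm_num) ?_
        · rw [pow_succ]; omega
        · rw [← h', Nat.add_sub_cancel]; ring
      have hm2 : m = 2 := by
        have : 2 ^ (m + 1) = 2 ^ 3 := by omega
        have := Nat.pow_right_injective le_rfl this
        omega
      subst hm2
      have h2448 : Nat.card G = 2448 := by
        rw [hcard]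
        rw [pow_succ 2 a] at h'
        norm_num at h' ⊢
        linarith
      haveI : Fact (Nat.Prime 17) := ⟨by norm_num⟩
      exact S1020.result h2448 (ZMod.card 17)
    · exfalso
      have hq' : q + 1 = 2 ^ (m + 2) := by omega
      have h9 : 2 ^ (m + 1) - 1 = 9 := by
        refine odd_parts (x := m + 3) (y := a + 1) ?_ (by norm_num) ?_
        · rw [pow_succ]; have := Nat.one_le_two_pow (n := m); omega
        · obtain ⟨s, hs⟩ : ∃ s, 2 ^ m = s + 1 :=
            ⟨2 ^ m - 1, by have := Nat.one_le_two_pow (n := m); omega⟩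
          rw [pow_add, hs] at hq'
          rw [← h', show q - 1 = 4 * s + 2 by omega, show q + 1 = 4 * (s + 1) by omega,
            pow_add, pow_succ 2 m, hs, show (s + 1) * 2 - 1 = 2 * s + 1 by omega]
          ring
      rcases (show m + 1 ≤ 3 ∨ 4 ≤ m + 1 by omega) with h4 | h4
      · have := Nat.pow_le_pow_right (show 0 < 2 by norm_num) h4
        omega
      · have := Nat.pow_le_pow_right (show 0 < 2 by norm_num) h4
        omega
  · exfalso
    have hm0 : m ≠ 0 := by rintro rfl; norm_num at hm; omega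
    have h := Linear.card_PSL_two_of_even (F := F)
      (by rw [hF]; exact (Nat.even_pow).2 ⟨even_two, hm0⟩)
    rw [← Nat.card_congr e.toEquiv, hF, hcard, ← hm] at h
    have h' : 2 ^ a * 9 = 2 ^ m * (2 ^ m - 1) := by
      refine Nat.eq_of_mul_eq_mul_right hq.pos ?_
      linarith
    have hd : 2 ∣ 2 ^ m := dvd_pow_self 2 hm0
    have := odd_parts (by norm_num) (by have := Nat.one_le_two_pow (n := m); omega) h'
    rcases (show m ≤ 3 ∨ 4 ≤ m by omega) with h4 | h4
    · interval_cases m <;> norm_num at this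
    · have := Nat.pow_le_pow_right (show 0 < 2 by norm_num) h4
      omega

theorem seven_pair {a d f : ℕ} {ε s : ℤ} (hε : ε = 1 ∨ ε = -1) (hs : s = 1 ∨ s = -1)
    (h : 1 + ε * d + s * f = 0) (hd : d ∣ 2 ^ a * 63) (hf : f ∣ 2 ^ a * 63) (hd1 : 1 < d)
    (hf1 : 1 < f) (hd7 : (7 : ℤ) ∣ d + 2 * ε) (hf7 : (7 : ℤ) ∣ f - s) :
    ε = -1 ∧ s = 1 ∧ d = 9 ∧ f = 8 := by
  have key : ∀ z : ℕ, z ∣ 2 ^ a * 63 → ¬ 2 ∣ z → z ∈ Nat.divisors 63 := fun z hz ho =>
    Nat.mem_divisors.2 ⟨dvd_of_odd ho hz, by norm_num⟩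
  have h5 : ∀ z : ℕ, z ∣ 2 ^ a * 63 → z ≠ 10 ∧ z ≠ 20 ∧ z ≠ 22 ∧ z ≠ 62 := by
    intro z hz
    have hp : ∀ p : ℕ, p.Prime → ¬ p ∣ 2 → ¬ p ∣ 63 → ¬ p ∣ z := fun p hp h2 h63 hpz =>
      (hp.dvd_mul.1 (hpz.trans hz)).elim (fun h => h2 (hp.dvd_of_dvd_pow h)) h63
    have := hp 5 (by norm_num) (by norm_num) (by norm_num)
    have := hp 11 (by norm_num) (by norm_num) (by norm_num)
    have := hp 31 (by norm_num) (by norm_num) (by norm_num)
    omega
  obtain ⟨d5, d20, d22, d62⟩ := h5 d hd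
  obtain ⟨f5, f20, f22, f62⟩ := h5 f hf
  have h63 : Nat.divisors 63 = {1, 3, 7, 9, 21, 63} := by decide
  by_cases ho : 2 ∣ d
  · have := key f hf (by rcases hε with rfl | rfl <;> rcases hs with rfl | rfl <;> omega)
    rw [h63] at this
    simp only [Finset.mem_insert, Finset.mem_singleton] at this
    rcases hε with rfl | rfl <;> rcases hs with rfl | rfl <;> omega
  · have := key d hd ho
    rw [h63] at this
    simp only [Finset.mem_insert, Finset.mem_singleton] at this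
    rcases hε with rfl | rfl <;> rcases hs with rfl | rfl <;> omega

theorem seven_case (hna : ¬ IsMulCommutative G) {a : ℕ} (hcard : Nat.card G = 9 * 2 ^ a * 7) :
    Nat.card G = 504 := by
  letI := Fintype.ofFinite G
  haveI : Fact (Nat.Prime 7) := ⟨by norm_num⟩
  obtain ⟨n, k, -, hn, hn1, hk, hk1, hnk, hP, hC, hN⟩ := SmallGroups.exists_threePrime_data
    hna Nat.prime_two Nat.prime_three (r := 7) (a := a) (b := 2)
    (by norm_num) (by norm_num) (by norm_num) (by rw [hcard]; ring)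
  norm_num at hk hnk
  have hpow : ∀ m : ℕ, 2 ^ m % 7 = 2 ^ (m % 3) % 7 := fun m => by
    conv_lhs => rw [← Nat.div_add_mod m 3, pow_add, pow_mul]
    simp [Nat.mul_mod, Nat.pow_mod]
  have hr : 2 ^ a % 7 = 1 ∨ 2 ^ a % 7 = 2 ∨ 2 ^ a % 7 = 4 := by
    rw [hpow]
    have : a % 3 < 3 := Nat.mod_lt _ (by norm_num)
    interval_cases a % 3 <;> norm_num
  obtain rfl : k = 2 := by
    have hk6 : k ≤ 6 := Nat.le_of_dvd (by norm_num) hk
    interval_cases k <;> omega
  have ha3 : a % 3 = 0 := by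
    have h1 : 2 ^ (a % 3) % 7 = 1 := by rw [← hpow]; omega
    have : a % 3 < 3 := Nat.mod_lt _ (by norm_num)
    interval_cases a % 3 <;> simp_all
  obtain ⟨P⟩ := (inferInstance : Nonempty (Sylow 7 G))
  obtain ⟨ε, b, d, L, hε, ⟨hd1, hd, hdp⟩, hL, hnm, hs, -, hinv⟩ :=
    SmallGroups.Exceptional.exists_involution_data (P : Subgroup G) (p := 7) (e := 2) (t := 3)
      (by norm_num) (by norm_num) (hP P) (hC P) (hN P) hna (by norm_num) (by norm_num) (by norm_num)
  have hLnn : 0 ≤ (L.map fun x => x.2 ^ 2).sum := List.sum_nonneg fun x hx => by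
    obtain ⟨y, -, rfl⟩ := List.mem_map.mp hx
    exact sq_nonneg _
  norm_num at hnm hdp
  have hb : b = 0 := by
    have hb1 : b ≤ 1 := by nlinarith only [hnm, hLnn, sq_nonneg (b + ε)]
    have hb2 : -1 ≤ b := by nlinarith only [hnm, hLnn, sq_nonneg (b + ε)]
    by_contra hb0
    obtain ⟨hbε, hz⟩ : b = -ε ∧ (L.map fun x => x.2 ^ 2).sum = 0 := by
      rcases hε with rfl | rfl <;> interval_cases b <;> norm_num at hnm ⊢ <;> omega
    have hL0 : L = [] := by
      rcases L with _ | ⟨x, L⟩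
      · rfl
      exfalso
      have h1 : 0 < x.2 ^ 2 := sq_pos_iff.2 (hL x List.mem_cons_self).2.2.2
      have h2 : 0 ≤ (L.map fun x => x.2 ^ 2).sum := List.sum_nonneg fun y hy => by
        obtain ⟨z, -, rfl⟩ := List.mem_map.mp hy
        exact sq_nonneg _
      simp only [List.map_cons, List.sum_cons] at hz
      omega
    subst hL0
    simp only [List.map_nil, List.sum_nil, add_zero] at hs
    rcases hε with rfl | rfl <;> subst hbε <;> norm_num at hs <;> omega
  subst hb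
  obtain ⟨f, s, rfl, hs1⟩ := SmallGroups.list_sq_sum_one (fun x hx => (hL x hx).2.2.2)
    (by rcases hε with rfl | rfl <;> norm_num at hnm ⊢ <;> omega)
  obtain ⟨hf1, hf, hfp, -⟩ : 1 < f ∧ f ∣ Nat.card G ∧ (7 : ℤ) ∣ (f : ℤ) - s ∧ s ≠ 0 := by
    simpa using hL (f, s) (by simp)
  simp only [List.map_cons, List.map_nil, List.sum_cons, List.sum_nil, add_zero] at hs
  have hcard' : Nat.card G = 2 ^ a * 63 := by rw [hcard]; ring
  obtain ⟨rfl, rfl, rfl, rfl⟩ := seven_pair hε hs1 (by push_cast at hs; linarith) (hcard' ▸ hd)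
    (hcard' ▸ hf) hd1 hf1 (by simpa [mul_comm] using hdp) hfp
  have ha : 0 < a := by
    by_contra h0
    obtain rfl : a = 0 := by omega
    norm_num at hnk
    omega
  obtain ⟨g, hg, hgC⟩ := SmallGroups.exists_involution_dvd_centralizer (G := G) ha
    (hcard ▸ (dvd_mul_left _ 9).mul_right 7)
  obtain ⟨u, V, hV, -, hVi, hlin, -, hquad⟩ := hinv g hg
  obtain ⟨⟨f', s', v⟩, rfl, hx⟩ : ∃ x, V = [x] ∧ (x.1, x.2.1) = ((8 : ℕ), (1 : ℤ)) := by
    rcases V with _ | ⟨x, _ | ⟨y, V⟩⟩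
    · simp at hV
    · exact ⟨x, rfl, by simpa using hV⟩
    · simp at hV
  simp only [Prod.mk.injEq] at hx
  obtain ⟨rfl, rfl⟩ := hx
  obtain ⟨i, hi, hv'⟩ := hVi _ List.mem_cons_self
  simp only at hi hv'
  subst hv'
  simp only [List.map_cons, List.map_nil, List.sum_cons, List.sum_nil, add_zero] at hlin hquad
  norm_num at hlin
  obtain rfl : u = 1 + (2 * (i : ℤ) - 8) := by linarith
  set C := Nat.card ↥(Subgroup.centralizer ({g} : Set G))
  have hC0 : 0 < C := Nat.card_pos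
  have hC2 : 2 ^ a ≤ C := Nat.le_of_dvd hC0 hgC
  rw [hcard'] at hquad
  push_cast at hquad
  have key : (2 : ℚ) ^ a * (2 * i - 16) ^ 2 = 8 * (C : ℚ) ^ 2 := by
    rcases hquad with h | h
    · exfalso
      have hi' : (i : ℚ) ≤ 7 := by exact_mod_cast (show i ≤ 7 by omega)
      have hp : (0 : ℚ) < 2 ^ a := by positivity
      nlinarith only [h, mul_pos hp (pow_pos (show (0 : ℚ) < 16 - 2 * i by linarith) 2)]
    · linear_combination (8 / 7 : ℚ) * h
  have key' : (2 : ℤ) ^ a * (2 * i - 16) ^ 2 = 8 * (C : ℤ) ^ 2 := by exact_mod_cast key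
  have hi0 : (0 : ℤ) ≤ i := by positivity
  have hC2' : (2 : ℤ) ^ a ≤ (C : ℤ) := by exact_mod_cast hC2
  have hp : (0 : ℤ) < 2 ^ a := by positivity
  have h32 : (2 : ℤ) ^ a ≤ 2 ^ 5 := by
    have h1 : (2 * (i : ℤ) - 16) ^ 2 ≤ 256 := by nlinarith
    norm_num
    nlinarith
  have ha5 : a ≤ 5 := (Nat.pow_le_pow_iff_right (by norm_num : 1 < 2)).1 (by exact_mod_cast h32)
  obtain rfl : a = 3 := by omega
  rw [hcard]
  norm_num

theorem five_case (hna : ¬ IsMulCommutative G) {a : ℕ} (hcard : Nat.card G = 9 * 2 ^ a * 5)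
    {X : IrrCharacter G} (hX : (X : G → ℂ) ≠ fun _ => 1) (hn : (X : G → ℂ) 1 = (4 : ℕ))
    (hint : ∀ g : G, ∃ k : ℤ, (X : G → ℂ) g = k) : Nat.card G = 360 := by
  haveI : Fact (Nat.Prime 5) := ⟨by norm_num⟩
  have ha : a ≤ 7 := by
    have h := exponent_le hna Nat.prime_two hX hn hint
    have hfac : (Nat.card G).factorization 2 = a := by
      rw [hcard, show 9 * 2 ^ a * 5 = 45 * 2 ^ a by ring,
        Nat.factorization_mul (by norm_num) (pow_ne_zero _ two_ne_zero), Finsupp.add_apply,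
        Nat.factorization_eq_zero_of_not_dvd (by norm_num), Nat.prime_two.factorization_pow]
      simp
    rw [hfac] at h
    simpa [Finset.sum_range_succ] using h
  obtain ⟨n, k, -, hn, hn1, hk, hk1, hnk, -⟩ := SmallGroups.exists_threePrime_data
    hna Nat.prime_two Nat.prime_three (r := 5) (a := a) (b := 2)
    (by norm_num) (by norm_num) (by norm_num) (by rw [hcard]; ring)
  norm_num at hk hnk
  have hk4 : k ≤ 4 := Nat.le_of_dvd (by norm_num) hk
  interval_cases a
  all_goals interval_cases k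
  all_goals
    first
      | omega
      | (have := S0496.result hna (by omega); omega)
      | exact absurd (hcard.trans (by norm_num)) S0980.result

/-- The classification from a good pair. -/
theorem finish (hna : ¬ IsMulCommutative G) {q a b : ℕ} (hq : q.Prime) (hq2 : q ≠ 2)
    (hq3 : q ≠ 3) (hcard : Nat.card G = 9 * 2 ^ a * q ^ b) (h : GoodPair G) :
    Nonempty (G ≃* ↥(alternatingGroup (Fin 6))) ∨
      (∃ (F : Type) (_ : Field F) (_ : Fintype F), Fintype.card F = 8 ∧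
        Nonempty (G ≃* Matrix.ProjectiveSpecialLinearGroup (Fin 2) F)) ∨
      Nonempty (G ≃* Matrix.ProjectiveSpecialLinearGroup (Fin 2) (ZMod 17)) := by
  obtain ⟨X, Z, v, hX, hZ, hXd, hZd, hv, hiX, hiZ⟩ := exists_char_data hna hq hq2 hq3 hcard h
  obtain rfl := exponent_eq_one hna hq hq2 hq3 hcard hX hXd hiX
  rw [pow_one] at hcard
  by_cases h11 : 11 ≤ q
  · exact .inr (.inr (large_case hna hq h11 hcard))
  have := hq.two_le
  have hq57 : q = 5 ∨ q = 7 := by
    interval_cases q <;> first | omega | exact absurd hq (by norm_num)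
  rcases hq57 with rfl | rfl
  · left
    have h4 : 2 ^ v = 4 := by
      rcases hv with hv | hv
      · exfalso
        rcases (show v ≤ 2 ∨ 3 ≤ v by omega) with h | h
        · interval_cases v <;> norm_num at hv
        · have := Nat.pow_le_pow_right (show 0 < 2 by norm_num) h
          omega
      · omega
    exact S0497.result (five_case hna hcard hZ (by rw [hZd, h4]) hiZ)
  · refine .inr (.inl ?_)
    let F := GaloisField 2 3
    haveI : Fact (Nat.Prime 2) := ⟨Nat.prime_two⟩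
    letI : Fintype F := Fintype.ofFinite F
    have hF : Fintype.card F = 8 := by
      rw [← Nat.card_eq_fintype_card, GaloisField.card 2 3 (by norm_num)]
      norm_num
    exact ⟨F, inferInstance, inferInstance, hF, S1011.result (seven_case hna hcard) hF⟩

end Cfsg.Agent.NineSylow
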