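import Cfsg.Agent.NineSylow.Triple
import Cfsg.Agent.NineSylow.Action
import Mathlib.Analysis.Fourier.ZMod

/-!
# Rational characters of consecutive degrees when a four-group acts by signs
-/

set_option autoImplicit false
set_option linter.style.haveILetI false
set_option linter.unusedSectionVars false

noncomputable section

namespace Cfsg.Agent.NineSylow

open Cfsg Cfsg.Agent
open Cfsg.Agent.BlkChar.SectionLift
open scoped ComplexConjugate Classical

universe u

theorem sum_zmod_three (F : ZMod 3 → ℂ) : ∑ i : ZMod 3, F i = F 0 + F 1 + F (-1) :=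
  Fin.sum_univ_three F

/-- Two at zero, minus one elsewhere. -/
def hh (i : ZMod 3) : ℂ := if i = 0 then 2 else -1

theorem hh_neg (i : ZMod 3) : hh (-i) = hh i := by simp [hh]

theorem hh_eq (i : ZMod 3) :
    hh i = (ZMod.stdAddChar i : ℂ) + (ZMod.stdAddChar (-i) : ℂ) := by
  have h1 : (ZMod.stdAddChar (N := 3) : AddChar (ZMod 3) ℂ) ≠ 1 := fun h => by
    have h2 : (1 : ZMod 3) = 0 := ZMod.injective_stdAddChar (N := 3) (by
      rw [AddChar.map_zero_eq_one, h, AddChar.one_apply])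
    exact one_ne_zero h2
  have h0 := AddChar.sum_eq_zero_of_ne_one h1
  rw [sum_zmod_three, AddChar.map_zero_eq_one] at h0
  rcases zmod_three_cases i with rfl | rfl | rfl
  · rw [hh, if_pos rfl, neg_zero, AddChar.map_zero_eq_one]
    norm_num
  · rw [hh, if_neg one_ne_zero]
    linear_combination -h0
  · rw [hh, if_neg (by decide), neg_neg]
    linear_combination -h0

variable {G : Type u} [Group G] [Fintype G] {P : Sylow 3 G}
variable {e f : (P : Subgroup G)} (h : FourCase P e f)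

/-- The coordinates. -/
def co : ↥(P : Subgroup G) ≃ ZMod 3 × ZMod 3 := (Equiv.ofBijective _ h.bij).symm

include h

theorem co_pt (i j : ZMod 3) : co h (pt P e f i j) = (i, j) :=
  (Equiv.ofBijective _ h.bij).symm_apply_apply (i, j)

theorem exists_pt (y : (P : Subgroup G)) : ∃ i j, y = pt P e f i j :=
  ⟨(co h y).1, (co h y).2, ((Equiv.ofBijective _ h.bij).apply_symm_apply y).symm⟩

omit h in
/-- A function of the coordinates. -/
def ofCo (h : FourCase P e f) (g : ZMod 3 → ZMod 3 → ℂ) (y : (P : Subgroup G)) : ℂ :=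
  g (co h y).1 (co h y).2

theorem ofCo_pt (g : ZMod 3 → ZMod 3 → ℂ) (i j : ZMod 3) :
    ofCo h g (pt P e f i j) = g i j := by rw [ofCo, co_pt]

theorem fused_ofCo {g : ZMod 3 → ZMod 3 → ℂ} (h1 : ∀ i j, g (-i) j = g i j)
    (h2 : ∀ i j, g i (-j) = g i j) : Fused P (ofCo h g) := by
  intro y y' hy
  obtain ⟨i, j, rfl⟩ := exists_pt h y
  obtain ⟨k, l, rfl⟩ := exists_pt h y'
  rw [ofCo_pt, ofCo_pt]
  obtain ⟨rfl | rfl, rfl | rfl⟩ := (h.conj i j k l).1 hy
  · rfl
  · rw [h2]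
  · rw [h1]
  · rw [h1, h2]

/-- A linear character in coordinates. -/
theorem exists_hom (u v : ZMod 3) : ∃ ψ : ↥(P : Subgroup G) →* ℂˣ,
    ∀ i j, (ψ (pt P e f i j) : ℂ) = ZMod.stdAddChar (u * i + v * j) := by
  let F : ↥(P : Subgroup G) → ℂˣ := fun y =>
    (ZMod.stdAddChar (N := 3)).toMonoidHom.toHomUnits
      (Multiplicative.ofAdd (u * (co h y).1 + v * (co h y).2))
  have hF : ∀ i j, (F (pt P e f i j) : ℂ) = ZMod.stdAddChar (u * i + v * j) := fun i j => by
    simp only [F, co_pt]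
    rfl
  refine ⟨MonoidHom.mk' F fun a b => Units.ext ?_, hF⟩
  obtain ⟨i, j, rfl⟩ := exists_pt h a
  obtain ⟨k, l, rfl⟩ := exists_pt h b
  rw [← pt_add h.comm h.he h.hf, Units.val_mul, hF, hF, hF, ← AddChar.map_add_eq_mul]
  congr 1
  ring

theorem sum_co (F : ↥(P : Subgroup G) → ℂ) :
    ∑ y, F y = ∑ i : ZMod 3, ∑ j : ZMod 3, F (pt P e f i j) := by
  rw [← Equiv.sum_comp (Equiv.ofBijective _ h.bij) F, Fintype.sum_prod_type]
  rfl

theorem card_fuse (i j : ZMod 3) :
    fuseCard (pt P e f i j) = (Finset.univ.filter fun t : ZMod 3 × ZMod 3 =>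
      (t.1 = i ∨ t.1 = -i) ∧ (t.2 = j ∨ t.2 = -j)).card := by
  rw [← Fintype.card_subtype, ← Nat.card_eq_fintype_card, fuseCard]
  refine (Nat.card_congr ((Equiv.ofBijective _ h.bij).subtypeEquiv fun t => ?_)).symm
  exact (h.conj i j t.1 t.2).symm

omit h in
theorem wt_fused {y y' : (P : Subgroup G)} (hy : IsConj (y : G) (y' : G)) : wt y = wt y' := by
  obtain ⟨k, hk⟩ := Element.orderOf_eq_pow_of_mem_isPGroup P.2 y.2
  obtain ⟨k', hk'⟩ := Element.orderOf_eq_pow_of_mem_isPGroup P.2 y'.2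
  have hs := sum_section (G := G) (F := fun _ => (1 : ℂ)) (fun _ _ => rfl) hk
  have hs' := sum_section (G := G) (F := fun _ => (1 : ℂ)) (fun _ _ => rfl) hk'
  have hfil : Finset.univ.filter (fun z : G => IsConj (Element.pPart 3 z) (y : G)) =
      Finset.univ.filter (fun z : G => IsConj (Element.pPart 3 z) (y' : G)) := by
    refine Finset.filter_congr fun z _ => ?_
    exact ⟨fun h => h.trans hy, fun h => h.trans hy.symm⟩
  simp only [Finset.sum_const, nsmul_eq_mul, mul_one] at hs hs'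
  rw [← hfil] at hs'
  have hm : fuseCard y = fuseCard y' :=
    Nat.card_congr (Equiv.subtypeEquivRight fun t =>
      ⟨fun h => hy.symm.trans h, fun h => hy.trans h⟩)
  have hC : (Nat.card (Subgroup.centralizer ({(y : G)} : Set G)) : ℂ) ≠ 0 :=
    Nat.cast_ne_zero.2 Nat.card_pos.ne'
  have hC' : (Nat.card (Subgroup.centralizer ({(y' : G)} : Set G)) : ℂ) ≠ 0 :=
    Nat.cast_ne_zero.2 Nat.card_pos.ne'
  have hG : (Nat.card G : ℂ) ≠ 0 := Nat.cast_ne_zero.2 Nat.card_pos.ne'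
  have hm' : (fuseCard y' : ℂ) ≠ 0 := Nat.cast_ne_zero.2 (fuseCard_pos y').ne'
  simp only [wt, hm]
  rw [div_eq_div_iff (mul_ne_zero hC hm') (mul_ne_zero hC' hm')]
  refine mul_left_cancel₀ hG ?_
  linear_combination ((Nat.card (Subgroup.centralizer ({(y' : G)} : Set G)) : ℂ) *
    (fuseCard y' : ℂ)) * hs -
    ((Nat.card (Subgroup.centralizer ({(y : G)} : Set G)) : ℂ) * (fuseCard y' : ℂ)) * hs'

variable (hP : Nat.card (P : Subgroup G) = 9)
include hP

theorem wt_diag {i j : ZMod 3} (hi : i ≠ 0) (hj : j ≠ 0) : wt (pt P e f i j) = 1 / 36 := by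
  have hm : fuseCard (pt P e f i j) = 4 := by
    rw [card_fuse h]
    revert hi hj
    revert i j
    decide
  have hc := card_regC_mul (P := P) (pt P e f i j : G) (pt P e f i j).2 h.comm (h.free i j hi hj)
  rw [hP] at hc
  have hpos : (regC 3 (pt P e f i j : G)).card ≠ 0 := by
    intro h0
    rw [h0, mul_zero] at hc
    exact Nat.card_pos.ne' hc.symm
  rw [wt, hm, ← hc]
  have : ((regC 3 (pt P e f i j : G)).card : ℂ) ≠ 0 := Nat.cast_ne_zero.2 hpos
  push_cast
  field_simp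
  ring

theorem axis_facts {y : (P : Subgroup G)} (hy : y ≠ 1) (hy3 : y ^ 3 = 1) (hm : fuseCard y = 2)
    {n : ℤ} (hn : (n : ℂ) = 5 / 3 - 6 * wt y) : wt y = 1 / 9 := by
  have ho : orderOf (y : G) = 3 := by
    rw [Subgroup.orderOf_coe]
    exact orderOf_eq_prime hy3 hy
  have hle := orderOf_mul_card_regC_le (p := 3) (y : G) (k := 1) (by rw [ho, pow_one])
  rw [ho] at hle
  have hpos : 0 < (regC 3 (y : G)).card :=
    Finset.card_pos.2 ⟨1, Finset.mem_filter.2 ⟨Finset.mem_univ _, Commute.one_right _,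
      by rw [orderOf_one]; norm_num⟩⟩
  set r := (regC 3 (y : G)).card with hr
  set cc := Nat.card (Subgroup.centralizer ({(y : G)} : Set G)) with hcc
  have hcpos : 0 < cc := Nat.card_pos
  have hcc0 : (cc : ℂ) ≠ 0 := Nat.cast_ne_zero.2 hcpos.ne'
  have hw : wt y = (r : ℂ) / ((cc : ℂ) * 2) := by
    rw [wt, hm, ← hr, ← hcc]
    norm_num
  rw [hw] at hn
  have hz : (9 * r : ℤ) = (5 - 3 * n) * cc := by
    have : ((9 * r : ℤ) : ℂ) = (((5 - 3 * n) * cc : ℤ) : ℂ) := by
      push_cast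
      rw [hn]
      field_simp
      ring
    exact_mod_cast this
  have hn1 : n = 1 := by
    by_contra hne
    rcases lt_or_gt_of_ne hne with hlt | hgt
    · have : (5 : ℤ) * cc ≤ (5 - 3 * n) * cc := by
        refine mul_le_mul_of_nonneg_right ?_ (Int.natCast_nonneg _)
        omega
      have hle' : (3 * r : ℤ) ≤ cc := by exact_mod_cast hle
      linarith only [this, hz, hle', show (1 : ℤ) ≤ cc by omega]
    · have : (5 - 3 * n) * (cc : ℤ) ≤ 0 :=
        mul_nonpos_iff.2 (Or.inr ⟨by omega, Int.natCast_nonneg _⟩)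
      have : (1 : ℤ) ≤ r := by omega
      linarith only [this, hz, ‹(5 - 3 * n) * (cc : ℤ) ≤ 0›]
  rw [hn1] at hn
  rw [hw]
  push_cast at hn
  linear_combination hn / 6

theorem wt_values (hgen : ∀ g : ZMod 3 → ZMod 3 → ℂ, g = (fun i _ => hh i) ∨ g = (fun _ j => hh j) →
    IsGeneralizedCharacter G (lift P (ofCo h g))) :
    ∀ i j : ZMod 3, wt (pt P e f i j) =
      (if i = 0 then (2 : ℂ) / 3 else 1 / 6) * (if j = 0 then (2 : ℂ) / 3 else 1 / 6) := by
  have hneg : ∀ i j, wt (pt P e f (-i) j) = wt (pt P e f i j) ∧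
      wt (pt P e f i (-j)) = wt (pt P e f i j) := fun i j =>
    ⟨(wt_fused ((h.conj i j (-i) j).2 ⟨Or.inr rfl, Or.inl rfl⟩)).symm,
      (wt_fused ((h.conj i j i (-j)).2 ⟨Or.inl rfl, Or.inr rfl⟩)).symm⟩
  set A := wt (pt P e f 1 0) with hA
  set B := wt (pt P e f 0 1) with hB
  set C := wt (pt P e f 0 0) with hC
  have d1 : wt (pt P e f (-1) 0) = A := (hneg 1 0).1
  have d2 : wt (pt P e f 0 (-1)) = B := (hneg 0 1).2
  have d3 := wt_diag h hP (i := 1) (j := 1) (by decide) (by decide)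
  have d4 := wt_diag h hP (i := -1) (j := 1) (by decide) (by decide)
  have d5 := wt_diag h hP (i := 1) (j := -1) (by decide) (by decide)
  have d6 := wt_diag h hP (i := -1) (j := -1) (by decide) (by decide)
  have hsum := sum_wt (P := P)
  rw [sum_co h] at hsum
  simp only [sum_zmod_three, d1, d2, d3, d4, d5, d6, ← hA, ← hB, ← hC] at hsum
  have hne : ∀ i j : ZMod 3, (i, j) ≠ (0, 0) → pt P e f i j ≠ 1 := fun i j hij he => by
    rw [← pt_zero (e := e) (f := f)] at he
    have := congrArg (co h) he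
    rw [co_pt, co_pt] at this
    exact hij this
  have hcube : ∀ y : (P : Subgroup G), y ^ 3 = 1 := fun y => by
    obtain ⟨i, j, rfl⟩ := exists_pt h y
    rw [pow_succ, pow_two, ← pt_add h.comm h.he h.hf, ← pt_add h.comm h.he h.hf]
    have h3 : ∀ x : ZMod 3, x + x + x = 0 := by decide
    rw [h3, h3, pt_zero]
  have hval : ∀ g : ZMod 3 → ZMod 3 → ℂ, Fused P (ofCo h g) →
      classInner (lift P (ofCo h g)) ((Char.trivialIrr G : IrrCharacter G) : G → ℂ) =
        C * g 0 0 + B * g 0 1 + B * g 0 (-1) + (A * g 1 0 + (1 / 36) * g 1 1 + (1 / 36) * g 1 (-1))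
          + (A * g (-1) 0 + (1 / 36) * g (-1) 1 + (1 / 36) * g (-1) (-1)) := by
    intro g hg
    rw [classInner_lift_trivial hg, sum_co h]
    simp only [sum_zmod_three, ofCo_pt, d1, d2, d3, d4, d5, d6, ← hA, ← hB, ← hC]
  have hA9 : A = 1 / 9 := by
    obtain ⟨n, hn⟩ := CharInd.genChar_inner_int (hgen (fun i _ => hh i) (Or.inl rfl))
      (Char.trivialIrr G).2
    rw [hval _ (fused_ofCo h (fun i _ => hh_neg i) fun _ _ => rfl)] at hn
    simp only [hh, if_pos, if_neg one_ne_zero, if_neg (show (-1 : ZMod 3) ≠ 0 by decide)] at hn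
    refine axis_facts h hP (hne 1 0 (by decide)) (hcube _) ?_ (n := n) ?_
    · rw [card_fuse h]; decide
    · rw [← hn]; linear_combination (2 : ℂ) * hsum
  have hB9 : B = 1 / 9 := by
    obtain ⟨n, hn⟩ := CharInd.genChar_inner_int (hgen (fun _ j => hh j) (Or.inr rfl))
      (Char.trivialIrr G).2
    rw [hval _ (fused_ofCo h (fun _ _ => rfl) fun _ j => hh_neg j)] at hn
    simp only [hh, if_pos, if_neg one_ne_zero, if_neg (show (-1 : ZMod 3) ≠ 0 by decide)] at hn
    refine axis_facts h hP (hne 0 1 (by decide)) (hcube _) ?_ (n := n) ?_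
    · rw [card_fuse h]; decide
    · rw [← hn]; linear_combination (2 : ℂ) * hsum
  have hC9 : C = 4 / 9 := by
    rw [hA9, hB9] at hsum
    linear_combination hsum
  intro i j
  have h10 : (1 : ZMod 3) ≠ 0 := by decide
  have hm10 : (-1 : ZMod 3) ≠ 0 := by decide
  rcases zmod_three_cases i with rfl | rfl | rfl <;> rcases zmod_three_cases j with rfl | rfl | rfl <;>
    simp only [d1, d2, d3, d4, d5, d6, ← hA, ← hB, ← hC, hA9, hB9, hC9, if_pos, if_neg h10,
      if_neg hm10] <;> norm_num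

theorem goodPair_four : GoodPair G := by
  haveI : Finite (IrrCharacter G) := CharInd.finite_irrCharacter
  letI := Fintype.ofFinite (IrrCharacter G)
  set l : Fin 3 → ZMod 3 → ZMod 3 → ℂ :=
    ![fun i _ => hh i, fun _ j => hh j, fun i j => hh i * hh j] with hl
  have hl0 : l 0 = fun i _ => hh i := rfl
  have hl1 : l 1 = fun _ j => hh j := rfl
  have hl2 : l 2 = fun i j => hh i * hh j := rfl
  have hfus : ∀ k, Fused P (ofCo h (l k)) := by
    intro k
    fin_cases k <;> refine fused_ofCo h (fun i j => ?_) (fun i j => ?_) <;> simp [hl, hh_neg]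
  have hgen : ∀ k, IsGeneralizedCharacter G (lift P (ofCo h (l k))) := by
    intro k
    obtain ⟨a, ha⟩ := exists_hom h 1 0
    obtain ⟨a', ha'⟩ := exists_hom h (-1) 0
    obtain ⟨b, hb⟩ := exists_hom h 0 1
    obtain ⟨b', hb'⟩ := exists_hom h 0 (-1)
    obtain ⟨c₁, hc₁⟩ := exists_hom h 1 1
    obtain ⟨c₂, hc₂⟩ := exists_hom h 1 (-1)
    obtain ⟨c₃, hc₃⟩ := exists_hom h (-1) 1
    obtain ⟨c₄, hc₄⟩ := exists_hom h (-1) (-1)
    fin_cases k
    · refine lift_generalized (hfus 0) ![1, 1] ![a, a'] fun y => ?_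
      obtain ⟨i, j, rfl⟩ := exists_pt h y
      simp [Fin.sum_univ_two, hl0, ofCo_pt, ha, ha', hh_eq]
    · refine lift_generalized (hfus 1) ![1, 1] ![b, b'] fun y => ?_
      obtain ⟨i, j, rfl⟩ := exists_pt h y
      simp [Fin.sum_univ_two, hl1, ofCo_pt, hb, hb', hh_eq]
    · refine lift_generalized (hfus 2) ![1, 1, 1, 1] ![c₁, c₂, c₃, c₄] fun y => ?_
      obtain ⟨i, j, rfl⟩ := exists_pt h y
      simp [Fin.sum_univ_four, hl2, ofCo_pt, hc₁, hc₂, hc₃, hc₄, hh_eq, AddChar.map_add_eq_mul]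
      ring
  have hw := wt_values h hP (fun g hg => by
    rcases hg with rfl | rfl
    · exact hgen 0
    · exact hgen 1)
  have hcl : ∀ k, IsClassFunction G (lift P (ofCo h (l k))) := fun k =>
    lift_isClassFunction (hfus k)
  have hreal : ∀ i : ZMod 3, conj (hh i) = hh i := by
    intro i; rw [hh]; split_ifs <;> simp [Complex.conj_ofNat]
  have htriv : ∀ k, classInner (lift P (ofCo h (l k)))
      ((Char.trivialIrr G : IrrCharacter G) : G → ℂ) = 1 := by
    intro k
    rw [classInner_lift_trivial (hfus k), sum_co h]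
    simp only [sum_zmod_three, hw, ofCo_pt]
    fin_cases k <;> simp [hl, hh, show (-1 : ZMod 3) ≠ 0 by decide] <;> norm_num
  have hin : ∀ k m, classInner (lift P (ofCo h (l k))) (lift P (ofCo h (l m))) =
      (![![3, 1, 3], ![1, 3, 3], ![3, 3, 9]] : Fin 3 → Fin 3 → ℂ) k m := by
    intro k m
    rw [classInner_lift (hfus k) (hfus m), sum_co h]
    simp only [sum_zmod_three, hw, ofCo_pt]
    fin_cases k <;> fin_cases m <;>
      simp [hl, hh, hreal, show (-1 : ZMod 3) ≠ 0 by decide, Complex.conj_ofNat] <;> norm_num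
  choose c hc using fun k => exists_coef (hgen k)
  have hone : ∀ k, lift P (ofCo h (l k)) 1 = l k 0 0 := fun k => by
    rw [lift_regular (hfus k) (by rw [orderOf_one]; norm_num),
      ← pt_zero (e := e) (f := f), ofCo_pt]
  obtain ⟨X, Z, d, d', ht⟩ := exists_triple (hcl 0) (hc 0) (by rw [hin]; rfl) (htriv 0)
    (by rw [hone, hl0]; simp [hh])
  obtain ⟨Y, W, m, m', hu⟩ := exists_triple (hcl 1) (hc 1) (by rw [hin]; rfl) (htriv 1)
    (by rw [hone, hl1]; simp [hh])
  set T := Char.trivialIrr G with hT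
  have hdot : ∀ k m : Fin 3, ((∑ χ, c k χ * c m χ : ℤ) : ℂ) =
      (![![3, 1, 3], ![1, 3, 3], ![3, 3, 9]] : Fin 3 → Fin 3 → ℂ) k m := fun k m => by
    rw [← hin, (hc k).inner_eq (hcl k) (hcl m) (hc m)]
  have d01 : ∑ χ, c 0 χ * c 1 χ = 1 := by have := hdot 0 1; simp at this; exact_mod_cast this
  have d02 : ∑ χ, c 0 χ * c 2 χ = 3 := by have := hdot 0 2; simp at this; exact_mod_cast this
  have d12 : ∑ χ, c 1 χ * c 2 χ = 3 := by have := hdot 1 2; simp at this; exact_mod_cast this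
  have d22 : ∑ χ, c 2 χ * c 2 χ = 9 := by have := hdot 2 2; simp at this; exact_mod_cast this
  have hc2T : c 2 T = 1 := by
    have := htriv 2
    rw [(hc 2).inner] at this
    exact_mod_cast this
  -- sums against a triple
  have hagainst : ∀ (a b : IrrCharacter G → ℤ) (θ : G → ℂ) (U V : IrrCharacter G) (p q : ℕ),
      Triple θ a U V p q → ∑ χ, a χ * b χ = b T + a U * b U + a V * b V := by
    intro a b θ U V p q hh'
    rw [← Finset.add_sum_erase _ _ (Finset.mem_univ T), hh'.ctriv,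
      ← Finset.add_sum_erase _ _ (Finset.mem_erase.2 ⟨hh'.Xne, Finset.mem_univ _⟩),
      ← Finset.add_sum_erase _ _ (Finset.mem_erase.2 ⟨hh'.ne.symm,
        Finset.mem_erase.2 ⟨hh'.Zne, Finset.mem_univ _⟩⟩),
      Finset.sum_eq_zero fun χ hχ => by
        simp only [Finset.mem_erase] at hχ
        rw [hh'.support χ hχ.2.2.1 hχ.2.1 hχ.1, zero_mul]]
    ring
  have hd0 : d ≠ 0 := fun h0 => Char.irr_one_ne_zero X.2 (by rw [ht.degX, h0, Nat.cast_zero])
  have hd0' : d' ≠ 0 := fun h0 => Char.irr_one_ne_zero Z.2 (by rw [ht.degZ, h0, Nat.cast_zero])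
  -- the two triples are disjoint
  have hdisj : c 1 X = 0 ∧ c 1 Z = 0 := by
    have h1 := hagainst _ (c 1) _ X Z d d' ht
    rw [d01, hu.ctriv] at h1
    by_contra hne
    have hnz : c 1 X ≠ 0 ∧ c 1 Z ≠ 0 := by
      rcases ht.cX with e1 | e1 <;> rcases ht.cZ with e2 | e2 <;> rw [e1, e2] at h1 <;>
        constructor <;> intro h0 <;> exact hne ⟨by omega, by omega⟩
    have hXmem : X = Y ∨ X = W := by
      by_contra hh'; simp only [not_or] at hh'
      exact hnz.1 (hu.support X ht.Xne hh'.1 hh'.2)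
    have hZmem : Z = Y ∨ Z = W := by
      by_contra hh'; simp only [not_or] at hh'
      exact hnz.2 (hu.support Z ht.Zne hh'.1 hh'.2)
    have hdeg' : c 1 X * d + c 1 Z * d' = 1 := by
      rcases hXmem with hX | hX <;> rcases hZmem with hZ | hZ
      · exact absurd (hX.trans hZ.symm) ht.ne
      · have e1 : d = m := Nat.cast_injective (R := ℂ) (by rw [← ht.degX, hX, hu.degX])
        have e2 : d' = m' := Nat.cast_injective (R := ℂ) (by rw [← ht.degZ, hZ, hu.degZ])
        rw [hX, hZ, e1, e2]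
        exact hu.deg
      · have e1 : d = m' := Nat.cast_injective (R := ℂ) (by rw [← ht.degX, hX, hu.degZ])
        have e2 : d' = m := Nat.cast_injective (R := ℂ) (by rw [← ht.degZ, hZ, hu.degX])
        rw [hX, hZ, e1, e2, add_comm]
        exact hu.deg
      · exact absurd (hX.trans hZ.symm) ht.ne
    have hu1 : c 1 X = 1 ∨ c 1 X = -1 := by
      rcases hXmem with hX | hX <;> rw [hX]
      · exact hu.cX
      · exact hu.cZ
    have hu2 : c 1 Z = 1 ∨ c 1 Z = -1 := by
      rcases hZmem with hZ | hZ <;> rw [hZ]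
      · exact hu.cX
      · exact hu.cZ
    have hdeg := ht.deg
    rcases ht.cX with e1 | e1 <;> rcases ht.cZ with e2 | e2 <;> rcases hu1 with e3 | e3 <;>
      rcases hu2 with e4 | e4 <;> simp only [e1, e2, e3, e4] at h1 hdeg hdeg' <;> omega
  have hYX : X ≠ Y ∧ X ≠ W ∧ Z ≠ Y ∧ Z ≠ W := by
    refine ⟨?_, ?_, ?_, ?_⟩ <;> intro he
    · have := hdisj.1; rw [he] at this; rcases hu.cX with e' | e' <;> omega
    · have := hdisj.1; rw [he] at this; rcases hu.cZ with e' | e' <;> omega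
    · have := hdisj.2; rw [he] at this; rcases hu.cX with e' | e' <;> omega
    · have := hdisj.2; rw [he] at this; rcases hu.cZ with e' | e' <;> omega
  have hdisj' : c 0 Y = 0 ∧ c 0 W = 0 :=
    ⟨ht.support Y hu.Xne hYX.1.symm hYX.2.2.1.symm,
      ht.support W hu.Zne hYX.2.1.symm hYX.2.2.2.symm⟩
  set u := c 0 X * c 2 X with hu_def
  set v := c 0 Z * c 2 Z with hv_def
  set u' := c 1 Y * c 2 Y with hu'_def
  set v' := c 1 W * c 2 W with hv'_def
  have huv : u + v = 2 := by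
    have h1 := hagainst _ (c 2) _ X Z d d' ht
    rw [d02, hc2T] at h1
    linarith only [h1]
  have huv' : u' + v' = 2 := by
    have h1 := hagainst _ (c 2) _ Y W m m' hu
    rw [d12, hc2T] at h1
    linarith only [h1]
  have sqs : ∀ x : ℤ, (x = 1 ∨ x = -1) → ∀ y : ℤ, (x * y) * (x * y) = y * y := by
    rintro x (rfl | rfl) y <;> ring
  set S : Finset (IrrCharacter G) := {T, X, Z, Y, W} with hS
  have hSsum : ∀ F : IrrCharacter G → ℤ, ∑ χ ∈ S, F χ = F T + F X + F Z + F Y + F W := by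
    intro F
    rw [hS, Finset.sum_insert (by
        simp only [Finset.mem_insert, Finset.mem_singleton, not_or]
        exact ⟨ht.Xne.symm, ht.Zne.symm, hu.Xne.symm, hu.Zne.symm⟩),
      Finset.sum_insert (by simp [ht.ne, hYX.1, hYX.2.1]),
      Finset.sum_insert (by simp [hYX.2.2.1, hYX.2.2.2]),
      Finset.sum_insert (by simp [hu.ne]), Finset.sum_singleton]
    ring
  have hnorm : u * u + v * v + u' * u' + v' * v' + ∑ χ ∈ Finset.univ \ S, c 2 χ * c 2 χ = 8 := by
    rw [← Finset.sum_add_sum_compl S (fun χ => c 2 χ * c 2 χ), Finset.compl_eq_univ_sdiff,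
      hSsum, hc2T] at d22
    rw [hu_def, hv_def, hu'_def, hv'_def, sqs _ ht.cX, sqs _ ht.cZ, sqs _ hu.cX, sqs _ hu.cZ]
    linarith only [d22]
  have hrest : 0 ≤ ∑ χ ∈ Finset.univ \ S, c 2 χ * c 2 χ :=
    Finset.sum_nonneg fun χ _ => mul_self_nonneg _
  -- the coefficients of the regular indicator
  have hreg : ∀ χ, χ ≠ T → classInner (lift P (delta (Nat.card (P : Subgroup G) : ℂ))) (χ : G → ℂ) =
      ((c 0 χ + c 1 χ + c 2 χ : ℤ) : ℂ) := by
    intro χ hχ
    have hfun : lift P (delta (Nat.card (P : Subgroup G) : ℂ)) =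
        (T : G → ℂ) + lift P (ofCo h (l 0)) + lift P (ofCo h (l 1)) + lift P (ofCo h (l 2)) := by
      funext z
      obtain ⟨y, hy⟩ := exists_conj_pPart P z
      simp only [Pi.add_apply, lift_eq (fused_delta _) hy, lift_eq (hfus _) hy]
      obtain ⟨i, j, rfl⟩ := exists_pt h y
      show delta _ _ = 1 + _ + _ + _
      rw [hl0, hl1, hl2, ofCo_pt, ofCo_pt, ofCo_pt, delta, hP]
      have hiff : pt P e f i j = 1 ↔ i = 0 ∧ j = 0 := by
        rw [← pt_zero (e := e) (f := f)]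
        refine ⟨fun he => ?_, fun he => by rw [he.1, he.2]⟩
        have := congrArg (co h) he
        rw [co_pt, co_pt] at this
        exact Prod.mk.inj this
      simp only [hiff, hh]
      split_ifs <;> first | (exfalso; tauto) | norm_num
    rw [hfun, Char.classInner_add_left, Char.classInner_add_left, Char.classInner_add_left,
      CharInd.classInner_irr_ne T.2 χ.2 (fun e => hχ (Subtype.ext e.symm)), (hc 0).inner,
      (hc 1).inner, (hc 2).inner]
    push_cast
    ring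
  have hint : ∀ k, ∀ g, ∃ n : ℤ, lift P (ofCo h (l k)) g = n := by
    intro k g
    obtain ⟨y, hy⟩ := exists_conj_pPart P g
    rw [lift_eq (hfus k) hy]
    obtain ⟨i, j, rfl⟩ := exists_pt h y
    rw [ofCo_pt]
    have hi : ∀ i, ∃ n : ℤ, hh i = n := fun i => by
      rw [hh]; split_ifs
      · exact ⟨2, by norm_num⟩
      · exact ⟨-1, by norm_num⟩
    obtain ⟨a, ha⟩ := hi i
    obtain ⟨b, hb⟩ := hi j
    fin_cases k
    · exact ⟨a, by simp [hl, ha]⟩
    · exact ⟨b, by simp [hl, hb]⟩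
    · exact ⟨a * b, by simp [hl, ha, hb]⟩
  have hdvd : ∀ (χ : IrrCharacter G) (n : ℕ) (x : ℤ) (σ : ℤ), χ ≠ T → (χ : G → ℂ) 1 = n →
      (σ = 1 ∨ σ = -1) → c 0 χ + c 1 χ + c 2 χ = σ * (1 + x) → ¬ (3 : ℤ) ∣ (1 + x) → ¬ 3 ∣ n := by
    intro χ n x σ hχ hn hσ hsum hx
    refine not_dvd_degree (P := P) χ (σ * (1 + x)) (by rw [hreg χ hχ, hsum]) ?_ hn
    rcases hσ with rfl | rfl
    · rw [one_mul]; exact hx
    · rw [neg_one_mul, dvd_neg]; exact hx
  have inv2 : ∀ x : ℤ, (x = 1 ∨ x = -1) → ∀ y : ℤ, x + y = x * (1 + x * y) := by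
    rintro x (rfl | rfl) y <;> ring
  by_cases hgood : ¬ (3 : ℤ) ∣ (1 + u) ∧ ¬ (3 : ℤ) ∣ (1 + v)
  · refine ht.goodPair (hcl 0) (hc 0) (hint 0) ?_ ?_
    · exact hdvd X d u (c 0 X) ht.Xne ht.degX ht.cX
        (by rw [hdisj.1, add_zero, hu_def]; exact inv2 _ ht.cX _) hgood.1
    · exact hdvd Z d' v (c 0 Z) ht.Zne ht.degZ ht.cZ
        (by rw [hdisj.2, add_zero, hv_def]; exact inv2 _ ht.cZ _) hgood.2
  by_cases hgood' : ¬ (3 : ℤ) ∣ (1 + u') ∧ ¬ (3 : ℤ) ∣ (1 + v')
  · refine hu.goodPair (hcl 1) (hc 1) (hint 1) ?_ ?_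
    · exact hdvd Y m u' (c 1 Y) hu.Xne hu.degX hu.cX
        (by rw [hdisj'.1, zero_add, hu'_def]; exact inv2 _ hu.cX _) hgood'.1
    · exact hdvd W m' v' (c 1 W) hu.Zne hu.degZ hu.cZ
        (by rw [hdisj'.2, zero_add, hv'_def]; exact inv2 _ hu.cZ _) hgood'.2
  exfalso
  -- both triples degenerate: the degree four identity fails modulo two
  have hbad : ∀ a b : ℤ, a + b = 2 → a * a + b * b ≤ 8 →
      ¬ (¬ (3 : ℤ) ∣ (1 + a) ∧ ¬ (3 : ℤ) ∣ (1 + b)) → (a = 2 ∧ b = 0) ∨ (a = 0 ∧ b = 2) := by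
    intro a b hab hsq hb3
    have hb : b = 2 - a := by linarith only [hab]
    have ha : -1 ≤ a ∧ a ≤ 3 := by
      rw [hb] at hsq
      constructor <;> by_contra hh' <;> push Not at hh' <;> nlinarith only [hsq, hh']
    obtain ⟨ha1, ha2⟩ := ha
    subst hb
    interval_cases a <;> first | omega | exact absurd ⟨by decide, by decide⟩ hb3 | norm_num at hsq
  have hb1 := hbad u v huv (by
    have := mul_self_nonneg u'; have := mul_self_nonneg v'
    linarith only [hnorm, hrest, mul_self_nonneg u', mul_self_nonneg v']) hgood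
  have hb2 := hbad u' v' huv' (by
    linarith only [hnorm, hrest, mul_self_nonneg u, mul_self_nonneg v]) hgood'
  have hzero : ∑ χ ∈ Finset.univ \ S, c 2 χ * c 2 χ = 0 := by
    rcases hb1 with ⟨a1, a2⟩ | ⟨a1, a2⟩ <;> rcases hb2 with ⟨b1, b2⟩ | ⟨b1, b2⟩ <;>
      rw [a1, a2, b1, b2] at hnorm <;> linarith only [hnorm]
  have hval := (hc 2).eq_sum (hcl 2) (1 : G)
  rw [hone, hl2] at hval
  simp only [hh, if_pos] at hval
  choose deg hdegpos hdeg hdegdvd using fun χ : IrrCharacter G => Char.irr_degree_dvd_card χ.2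
  have h4 : ∑ χ, c 2 χ * (deg χ : ℤ) = 4 := by
    have : ((∑ χ, c 2 χ * (deg χ : ℤ) : ℤ) : ℂ) = ((4 : ℤ) : ℂ) := by
      push_cast
      rw [show (4 : ℂ) = 2 * 2 by norm_num, hval]
      exact Finset.sum_congr rfl fun χ _ => by rw [hdeg]
    exact_mod_cast this
  rw [← Finset.sum_add_sum_compl S, Finset.compl_eq_univ_sdiff, Finset.sum_eq_zero
    (s := Finset.univ \ S) fun χ hχ => by
      have := (Finset.sum_eq_zero_iff_of_nonneg fun χ _ => mul_self_nonneg (c 2 χ)).1 hzero χ hχ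
      rw [mul_self_eq_zero.1 this, zero_mul], hSsum, hc2T] at h4
  have hTdeg : deg T = 1 := Nat.cast_injective (R := ℂ) (by rw [← hdeg, Nat.cast_one]; rfl)
  rw [hTdeg] at h4
  have heven : ∀ χ : IrrCharacter G, ∀ a : ℤ, (a = 1 ∨ a = -1) → (a * c 2 χ = 0 ∨ a * c 2 χ = 2) →
      (2 : ℤ) ∣ c 2 χ * (deg χ : ℤ) := by
    intro χ a ha ha2
    refine dvd_mul_of_dvd_left ?_ _
    rcases ha with rfl | rfl <;> omega
  have e1 : (2 : ℤ) ∣ c 2 X * (deg X : ℤ) := heven X (c 0 X) ht.cX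
    (by rw [← hu_def]; omega)
  have e2 : (2 : ℤ) ∣ c 2 Z * (deg Z : ℤ) := heven Z (c 0 Z) ht.cZ
    (by rw [← hv_def]; omega)
  have e3 : (2 : ℤ) ∣ c 2 Y * (deg Y : ℤ) := heven Y (c 1 Y) hu.cX
    (by rw [← hu'_def]; omega)
  have e4 : (2 : ℤ) ∣ c 2 W * (deg W : ℤ) := heven W (c 1 W) hu.cZ
    (by rw [← hv'_def]; omega)
  omega

end Cfsg.Agent.NineSylow
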