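import Cfsg.Agent.NineSylow.Triple
import Cfsg.Agent.NineSylow.Action

/-!
# Rational characters of consecutive degrees when the normaliser inverts the Sylow subgroup
-/

set_option autoImplicit false
set_option linter.style.haveILetI false
set_option linter.unusedSectionVars false

noncomputable section

namespace Cfsg.Agent.NineSylow

open Cfsg Cfsg.Agent
open Cfsg.Agent.BlkChar.SectionLift
open scoped ComplexConjugate Classical

universe u

variable {G : Type u} [Group G] [Fintype G] [Fact (Nat.Prime 3)] {P : Sylow 3 G}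

/-- A nontrivial element of exponent nine is not its own inverse. -/
theorem ne_inv_of_pow_nine {A : Type*} [Group A] {x : A} (h9 : x ^ 9 = 1) (hx : x ≠ 1) :
    x ≠ x⁻¹ := by
  intro he
  apply hx
  have h2 : x ^ 2 = 1 := by rw [pow_two]; nth_rw 2 [he]; exact mul_inv_cancel x
  calc x = x ^ 9 * ((x ^ 2) ^ 4)⁻¹ := by group
    _ = 1 := by rw [h2, h9]; simp

/-- A linear character plus its inverse. -/
def lam (ψ : ↥(P : Subgroup G) →* ℂˣ) (y : (P : Subgroup G)) : ℂ :=
  (ψ y : ℂ) + ((ψ y)⁻¹ : ℂˣ)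

theorem conj_hom (ψ : ↥(P : Subgroup G) →* ℂˣ) (y : (P : Subgroup G)) :
    conj (ψ y : ℂ) = ((ψ y)⁻¹ : ℂˣ) := by
  rw [Units.val_inv_eq_inv_val]
  refine (Complex.inv_eq_conj (Complex.norm_eq_one_of_pow_eq_one (n := orderOf y) ?_
    (orderOf_pos y).ne')).symm
  rw [← Units.val_pow_eq_pow_val, ← map_pow, pow_orderOf_eq_one, map_one, Units.val_one]

theorem conj_lam (ψ : ↥(P : Subgroup G) →* ℂˣ) (y : (P : Subgroup G)) :
    conj (lam ψ y) = lam ψ y := by
  rw [lam, map_add, conj_hom, Units.val_inv_eq_inv_val, map_inv₀, conj_hom,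
    Units.val_inv_eq_inv_val, inv_inv, add_comm]

theorem sum_hom (ψ : ↥(P : Subgroup G) →* ℂˣ) :
    ∑ y : (P : Subgroup G), (ψ y : ℂ) = if ψ = 1 then (Nat.card (P : Subgroup G) : ℂ) else 0 := by
  split_ifs with h
  · subst h
    simp [Nat.card_eq_fintype_card]
  · exact Char.monoidHom_sum_eq_zero h

theorem lam_inv_hom (ψ : ↥(P : Subgroup G) →* ℂˣ) (y : (P : Subgroup G)) :
    lam ψ⁻¹ y = lam ψ y := by
  simp only [lam, MonoidHom.inv_apply, inv_inv]
  exact add_comm _ _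

variable (h : InvCase P) (hP : Nat.card (P : Subgroup G) = 9)
include h hP

theorem fused_lam (ψ : ↥(P : Subgroup G) →* ℂˣ) : Fused P (lam ψ) := by
  intro y y' hy
  rcases (h.conj y y').1 hy with rfl | rfl
  · rfl
  · simp only [lam, map_inv, inv_inv]
    exact add_comm _ _

theorem genChar_lift_lam (ψ : ↥(P : Subgroup G) →* ℂˣ) :
    IsGeneralizedCharacter G (lift P (lam ψ)) := by
  haveI := h.comm
  refine lift_generalized (fused_lam h hP ψ) ![1, 1]
    ![ψ, MonoidHom.mk' (fun y => (ψ y)⁻¹) (fun a b => by rw [map_mul, mul_inv])] fun y => ?_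
  simp [Fin.sum_univ_two, lam]

theorem inv_ne_self {y : (P : Subgroup G)} (hy : y ≠ 1) : y⁻¹ ≠ y := by
  intro he
  apply hy
  have h2 : y ^ 2 = 1 := by rw [pow_two]; nth_rw 1 [← he]; exact inv_mul_cancel y
  have h9 : y ^ 9 = 1 := hP ▸ pow_card_eq_one'
  calc y = y ^ 9 * ((y ^ 2) ^ 4)⁻¹ := by group
    _ = 1 := by rw [h2, h9]; simp

theorem wt_ne_one {y : (P : Subgroup G)} (hy : y ≠ 1) : wt y = 1 / 18 := by
  have hm : fuseCard y = 2 := by
    rw [fuseCard, Nat.card_eq_fintype_card, Fintype.card_subtype]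
    rw [show Finset.univ.filter (fun y' : (P : Subgroup G) => IsConj (y : G) (y' : G)) = {y, y⁻¹} by
      ext z
      simp only [Finset.mem_filter, Finset.mem_univ, true_and, h.conj y z, Finset.mem_insert,
        Finset.mem_singleton]]
    exact Finset.card_pair (inv_ne_self h hP hy).symm
  have hc := card_regC_mul (P := P) (y : G) y.2 h.comm (h.free y hy)
  rw [hP] at hc
  have hpos : (regC 3 (y : G)).card ≠ 0 := by
    intro h0
    rw [h0, mul_zero] at hc
    exact Nat.card_pos.ne' hc.symm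
  rw [wt, hm, ← hc]
  have : ((regC 3 (y : G)).card : ℂ) ≠ 0 := Nat.cast_ne_zero.2 hpos
  push_cast
  field_simp
  ring

theorem wt_eq (y : (P : Subgroup G)) :
    wt y = 1 / 18 + if y = 1 then (1 : ℂ) / 2 else 0 := by
  split_ifs with hy
  · subst hy
    have hs := sum_wt (P := P)
    rw [← Finset.add_sum_erase _ _ (Finset.mem_univ (1 : (P : Subgroup G))),
      Finset.sum_congr rfl fun z hz => wt_ne_one h hP (Finset.mem_erase.1 hz).1, Finset.sum_const,
      Finset.card_erase_of_mem (Finset.mem_univ _), Finset.card_univ, ← Nat.card_eq_fintype_card,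
      hP] at hs
    norm_num at hs
    linear_combination hs
  · rw [add_zero]
    exact wt_ne_one h hP hy

theorem sum_wt_mul (f : ↥(P : Subgroup G) → ℂ) :
    ∑ y : (P : Subgroup G), wt y * f y =
      (1 / 2) * f 1 + (1 / 18) * ∑ y : (P : Subgroup G), f y := by
  simp only [wt_eq h hP, add_mul, Finset.sum_add_distrib, ← Finset.mul_sum, ite_mul, zero_mul,
    Finset.sum_ite_eq', Finset.mem_univ, if_true]
  ring

theorem lam_trivial (ψ : ↥(P : Subgroup G) →* ℂˣ) (hψ : ψ ≠ 1) :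
    classInner (lift P (lam ψ)) ((Char.trivialIrr G : IrrCharacter G) : G → ℂ) = 1 := by
  rw [classInner_lift_trivial (fused_lam h hP ψ), sum_wt_mul h hP]
  have h1 : ∑ y : (P : Subgroup G), lam ψ y = 0 := by
    simp only [lam, Finset.sum_add_distrib, ← conj_hom, ← map_sum, sum_hom, if_neg hψ, map_zero,
      add_zero]
  rw [h1]
  simp [lam]
  norm_num

theorem lam_inner (ψ φ : ↥(P : Subgroup G) →* ℂˣ) :
    classInner (lift P (lam ψ)) (lift P (lam φ)) =
      2 + (if ψ = φ then 1 else 0) + (if ψ = φ⁻¹ then 1 else 0) := by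
  have hab := h.comm
  rw [classInner_lift (fused_lam h hP ψ) (fused_lam h hP φ), sum_wt_mul h hP]
  have hexp : ∀ y : (P : Subgroup G), lam ψ y * conj (lam φ y) =
      (((ψ * φ) y : ℂˣ) : ℂ) + (((ψ * φ⁻¹) y : ℂˣ) : ℂ) + (((ψ⁻¹ * φ) y : ℂˣ) : ℂ) +
        (((ψ⁻¹ * φ⁻¹) y : ℂˣ) : ℂ) := by
    intro y
    rw [conj_lam]
    simp only [lam, MonoidHom.mul_apply, MonoidHom.inv_apply, Units.val_mul]
    ring
  simp only [hexp, Finset.sum_add_distrib, sum_hom, hP]
  simp only [map_one, Units.val_one]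
  have e1 : (ψ * φ = 1) ↔ ψ = φ⁻¹ := mul_eq_one_iff_eq_inv (G := ↥(P : Subgroup G) →* ℂˣ)
  have e2 : (ψ * φ⁻¹ = 1) ↔ ψ = φ := mul_inv_eq_one (G := ↥(P : Subgroup G) →* ℂˣ)
  have e3 : (ψ⁻¹ * φ = 1) ↔ ψ = φ := inv_mul_eq_one (G := ↥(P : Subgroup G) →* ℂˣ)
  have e4 : (ψ⁻¹ * φ⁻¹ = 1) ↔ ψ = φ⁻¹ := inv_mul_eq_one (G := ↥(P : Subgroup G) →* ℂˣ)
  simp only [e1, e2, e3, e4]
  split_ifs <;> push_cast <;> norm_num

omit h in
theorem sum_all_hom (hab : IsMulCommutative (P : Subgroup G))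
    [Fintype (↥(P : Subgroup G) →* ℂˣ)] (y : (P : Subgroup G)) :
    ∑ ψ : ↥(P : Subgroup G) →* ℂˣ, (ψ y : ℂ) = if y = 1 then (9 : ℂ) else 0 := by
  haveI := hab
  letI : CommGroup (P : Subgroup G) :=
    { (inferInstance : Group (P : Subgroup G)) with mul_comm := hab.is_comm.comm }
  split_ifs with hy
  · subst hy
    have hcard := CommGroup.card_monoidHom_of_hasEnoughRootsOfUnity (P : Subgroup G) ℂ
    rw [hP] at hcard
    simp only [map_one, Units.val_one, Finset.sum_const, Finset.card_univ,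
      ← Nat.card_eq_fintype_card, nsmul_eq_mul, mul_one]
    exact_mod_cast hcard
  · obtain ⟨φ, hφ⟩ := CommGroup.exists_apply_ne_one_of_hasEnoughRootsOfUnity (P : Subgroup G) ℂ hy
    have h1 := Equiv.sum_comp (Equiv.mulLeft φ) (fun ψ : ↥(P : Subgroup G) →* ℂˣ => (ψ y : ℂ))
    simp only [Equiv.coe_mulLeft, MonoidHom.mul_apply, Units.val_mul, ← Finset.mul_sum] at h1
    by_contra h0
    exact hφ (Units.ext ((mul_eq_right₀ h0).1 h1))

theorem goodPair_inv [IsSimpleGroup G] : GoodPair G := by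
  haveI := h.comm
  letI : CommGroup (P : Subgroup G) :=
    { (inferInstance : Group (P : Subgroup G)) with mul_comm := h.comm.is_comm.comm }
  haveI : Finite (↥(P : Subgroup G) →* ℂˣ) := Char.monoidHom_complex_finite
  letI := Fintype.ofFinite (↥(P : Subgroup G) →* ℂˣ)
  haveI : Finite (IrrCharacter G) := CharInd.finite_irrCharacter
  letI := Fintype.ofFinite (IrrCharacter G)
  have hcard : Nat.card (↥(P : Subgroup G) →* ℂˣ) = 9 :=
    (CommGroup.card_monoidHom_of_hasEnoughRootsOfUnity (P : Subgroup G) ℂ).trans hP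
  obtain ⟨ψ₁, hψ₁⟩ := exists_prime_orderOf_dvd_card' 3 (G := ↥(P : Subgroup G) →* ℂˣ)
    (by rw [hcard]; norm_num)
  have hψ1 : ψ₁ ≠ 1 := fun h => by rw [h, orderOf_one] at hψ₁; omega
  have hψinv : ψ₁ ≠ ψ₁⁻¹ := fun he => by
    have h2 : ψ₁ ^ 2 = 1 := by rw [pow_two]; nth_rw 2 [he]; exact mul_inv_cancel ψ₁
    have := orderOf_dvd_of_pow_eq_one h2
    rw [hψ₁] at this
    norm_num at this
  set T := Char.trivialIrr G
  choose c hc using fun ψ : ↥(P : Subgroup G) →* ℂˣ =>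
    exists_coef (genChar_lift_lam h hP ψ)
  have hcl : ∀ ψ, IsClassFunction G (lift P (lam ψ)) := fun ψ =>
    lift_isClassFunction (fused_lam h hP ψ)
  have hone : ∀ ψ, lift P (lam ψ) 1 = 2 := fun ψ => by
    rw [lift_regular (fused_lam h hP ψ) (by rw [orderOf_one]; norm_num)]
    simp [lam]
    norm_num
  have hnorm : classInner (lift P (lam ψ₁)) (lift P (lam ψ₁)) = 3 := by
    rw [lam_inner h hP, if_pos rfl, if_neg hψinv]
    norm_num
  obtain ⟨X, Z, d, e, ht⟩ := exists_triple (hcl ψ₁) (hc ψ₁) hnorm (lam_trivial h hP ψ₁ hψ1)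
    (hone ψ₁)
  set s := c ψ₁ X with hs
  set t := c ψ₁ Z with ht'
  have hcT : ∀ ψ, ψ ≠ 1 → c ψ T = 1 := fun ψ hψ => by
    have := lam_trivial h hP ψ hψ
    rw [(hc ψ).inner] at this
    exact_mod_cast this
  have hdot : ∀ ψ φ, ∑ χ, c ψ χ * c φ χ =
      2 + (if ψ = φ then 1 else 0) + (if ψ = φ⁻¹ then 1 else 0) := by
    intro ψ φ
    have := (hc ψ).inner_eq (hcl ψ) (hcl φ) (hc φ)
    rw [lam_inner h hP] at this
    exact_mod_cast this.symm
  -- the six other characters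
  let O : Finset (↥(P : Subgroup G) →* ℂˣ) :=
    Finset.univ.filter fun ψ => ψ ≠ 1 ∧ ψ ≠ ψ₁ ∧ ψ ≠ ψ₁⁻¹
  have hO : ∀ ψ ∈ O, (s * c ψ X = 1 ∧ c ψ Z = 0) ∨ (c ψ X = 0 ∧ t * c ψ Z = 1) := by
    intro ψ hψ
    obtain ⟨h1, h2, h3⟩ := (Finset.mem_filter.1 hψ).2
    have hd := hdot ψ ψ₁
    rw [if_neg h2, if_neg h3, ← Finset.add_sum_erase _ _ (Finset.mem_univ T), hcT ψ h1,
      hcT ψ₁ hψ1] at hd
    rw [← Finset.add_sum_erase _ _ (Finset.mem_erase.2 ⟨ht.Xne, Finset.mem_univ _⟩),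
      ← Finset.add_sum_erase _ _ (Finset.mem_erase.2 ⟨ht.ne.symm,
        Finset.mem_erase.2 ⟨ht.Zne, Finset.mem_univ _⟩⟩),
      Finset.sum_eq_zero fun χ hχ => by
        simp only [Finset.mem_erase] at hχ
        rw [ht.support χ hχ.2.2.1 hχ.2.1 hχ.1, mul_zero]] at hd
    have hn : c ψ X * c ψ X + c ψ Z * c ψ Z ≤ 2 := by
      have h4 := hdot ψ ψ
      have hne : ψ ≠ ψ⁻¹ := ne_inv_of_pow_nine (hcard ▸ pow_card_eq_one') h1
      rw [if_pos rfl, if_neg hne, ← Finset.add_sum_erase _ _ (Finset.mem_univ T), hcT ψ h1,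
        ← Finset.add_sum_erase _ _ (Finset.mem_erase.2 ⟨ht.Xne, Finset.mem_univ _⟩),
        ← Finset.add_sum_erase _ _ (Finset.mem_erase.2 ⟨ht.ne.symm,
          Finset.mem_erase.2 ⟨ht.Zne, Finset.mem_univ _⟩⟩)] at h4
      have hnn : 0 ≤ ∑ χ ∈ ((Finset.univ.erase T).erase X).erase Z, c ψ χ * c ψ χ :=
        Finset.sum_nonneg fun χ _ => mul_self_nonneg _
      linarith only [h4, hnn]
    have e1 : s * s = 1 := by rcases ht.cX with h | h <;> simp [hs, h]
    have e2 : t * t = 1 := by rcases ht.cZ with h | h <;> simp [ht', h]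
    set a := s * c ψ X with ha
    set b := t * c ψ Z with hb
    have hab' : a + b = 1 := by
      rw [ha, hb, hs, ht']
      linarith only [hd]
    have hsq : a * a + b * b ≤ 2 := by
      have : a * a + b * b = c ψ X * c ψ X + c ψ Z * c ψ Z := by
        rw [ha, hb]; linear_combination (c ψ X * c ψ X) * e1 + (c ψ Z * c ψ Z) * e2
      linarith only [this, hn]
    have hb' : b = 1 - a := by linarith only [hab']
    have ha0 : a = 0 ∨ a = 1 := by
      rw [hb'] at hsq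
      rcases lt_trichotomy a 0 with h | h | h
      · exfalso; nlinarith only [hsq, h]
      · exact Or.inl h
      · right; by_contra hne; nlinarith only [hsq, h, hne, show 2 ≤ a by omega]
    rcases ha0 with h | h
    · right
      refine ⟨?_, by omega⟩
      have h5 : s * (s * c ψ X) = c ψ X := by rw [← mul_assoc, e1, one_mul]
      rw [← h5, ← ha, h, mul_zero]
    · left
      refine ⟨h, ?_⟩
      have h5 : t * (t * c ψ Z) = c ψ Z := by rw [← mul_assoc, e2, one_mul]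
      rw [← h5, ← hb, hb', h, sub_self, mul_zero]
  -- no split
  have hsame : ∀ ψ ∈ O, ∀ φ ∈ O, s * c ψ X = 1 → s * c φ X = 1 := by
    intro ψ hψ φ hφ hψX
    rcases hO φ hφ with hφX | hφX
    · exact hφX.1
    exfalso
    have hψX' : c ψ Z = 0 := by
      rcases hO ψ hψ with h | h
      · exact h.2
      · rw [h.1, mul_zero] at hψX; omega
    have hne1 : ψ ≠ φ := fun he => by rw [he, hφX.1, mul_zero] at hψX; omega
    have hne2 : ψ ≠ φ⁻¹ := by
      intro he
      have hcc : c ψ X = c φ X := by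
        have e : lam ψ = lam φ := funext fun y => by rw [he, lam_inv_hom]
        have h1 := (hc ψ).inner X
        rw [e, (hc φ).inner X] at h1
        exact_mod_cast h1.symm
      rw [hcc, hφX.1, mul_zero] at hψX
      omega
    -- a third character
    obtain ⟨ω, hω, hω1, hω2, hω3, hω4⟩ : ∃ ω ∈ O, ω ≠ ψ ∧ ω ≠ ψ⁻¹ ∧ ω ≠ φ ∧ ω ≠ φ⁻¹ := by
      by_contra! hcon
      have hsub : (Finset.univ : Finset (↥(P : Subgroup G) →* ℂˣ)) ⊆
          [1, ψ₁, ψ₁⁻¹, ψ, ψ⁻¹, φ, φ⁻¹].toFinset := by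
        intro ω _
        simp only [List.mem_toFinset, List.mem_cons, List.not_mem_nil, or_false]
        by_contra hh
        simp only [not_or] at hh
        exact hh.2.2.2.2.2.2 (hcon ω (Finset.mem_filter.2 ⟨Finset.mem_univ _, hh.1, hh.2.1, hh.2.2.1⟩)
          hh.2.2.2.1 hh.2.2.2.2.1 hh.2.2.2.2.2.1)
      have h7 := (Finset.card_le_card hsub).trans (List.toFinset_card_le _)
      rw [Finset.card_univ, ← Nat.card_eq_fintype_card, hcard] at h7
      simp only [List.length_cons, List.length_nil] at h7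
      omega
    set R := ((Finset.univ.erase T).erase X).erase Z with hR
    have hsplit : ∀ a b, a ∈ O → b ∈ O → ∑ χ, c a χ * c b χ =
        1 + c a X * c b X + c a Z * c b Z + ∑ χ ∈ R, c a χ * c b χ := by
      intro a b ha hb
      rw [← Finset.add_sum_erase _ _ (Finset.mem_univ T), hcT a (Finset.mem_filter.1 ha).2.1,
        hcT b (Finset.mem_filter.1 hb).2.1,
        ← Finset.add_sum_erase _ _ (Finset.mem_erase.2 ⟨ht.Xne, Finset.mem_univ _⟩),
        ← Finset.add_sum_erase _ _ (Finset.mem_erase.2 ⟨ht.ne.symm,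
          Finset.mem_erase.2 ⟨ht.Zne, Finset.mem_univ _⟩⟩), hR]
      ring
    have hself : ∀ a ∈ O, a ≠ a⁻¹ := fun a ha =>
      ne_inv_of_pow_nine (hcard ▸ pow_card_eq_one') (Finset.mem_filter.1 ha).2.1
    have hs2 : s * s = 1 := by rcases ht.cX with h | h <;> simp [hs, h]
    have ht2 : t * t = 1 := by rcases ht.cZ with h | h <;> simp [ht', h]
    have hX2 : ∀ a b, s * c a X = 1 → s * c b X = 1 → c a X * c b X = 1 := fun a b p q => by
      linear_combination (s * c b X) * p + q - (c a X * c b X) * hs2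
    have hZ2 : ∀ a b, t * c a Z = 1 → t * c b Z = 1 → c a Z * c b Z = 1 := fun a b p q => by
      linear_combination (t * c b Z) * p + q - (c a Z * c b Z) * ht2
    -- unit parts outside the first triple
    have hunit : ∀ a ∈ O, ∑ χ ∈ R, c a χ * c a χ = 1 := by
      intro a ha
      have h1 := hdot a a
      rw [if_pos rfl, if_neg (hself a ha), hsplit a a ha ha] at h1
      rcases hO a ha with ⟨p, q⟩ | ⟨p, q⟩
      · rw [hX2 a a p p, q] at h1
        linarith only [h1]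
      · rw [hZ2 a a q q, p] at h1
        linarith only [h1]
    have hcross : ∀ a ∈ O, ∀ b ∈ O, a ≠ b → a ≠ b⁻¹ → s * c a X = 1 → c b X = 0 →
        ∀ χ ∈ R, c a χ = c b χ := by
      intro a ha b hb h1 h2 p q
      have h3 := hdot a b
      rw [if_neg h1, if_neg h2, hsplit a b ha hb] at h3
      have hqa : c a Z = 0 := by
        rcases hO a ha with h | h
        · exact h.2
        · rw [h.1, mul_zero] at p; omega
      rw [q, hqa] at h3
      have h4 : ∑ χ ∈ R, c a χ * c b χ = 1 := by linarith only [h3]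
      have h5 : ∑ χ ∈ R, (c a χ - c b χ) * (c a χ - c b χ) = 0 := by
        simp only [sub_mul, mul_sub, Finset.sum_sub_distrib]
        rw [hunit a ha, hunit b hb, h4, Finset.sum_congr rfl fun χ _ => mul_comm (c b χ) (c a χ), h4]
        norm_num
      intro χ hχ
      have := (Finset.sum_eq_zero_iff_of_nonneg fun χ _ => mul_self_nonneg _).1 h5 χ hχ
      exact sub_eq_zero.1 (mul_self_eq_zero.1 this)
    have hfin : ∀ a ∈ O, ∀ b ∈ O, a ≠ b → a ≠ b⁻¹ → (∀ χ ∈ R, c a χ = c b χ) →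
        c a X * c b X + c a Z * c b Z = 1 → False := by
      intro a ha b hb h1 h2 h3 h4
      have h5 := hdot a b
      rw [if_neg h1, if_neg h2, hsplit a b ha hb,
        Finset.sum_congr rfl (fun χ hχ => by rw [← h3 χ hχ]), hunit a ha] at h5
      linarith only [h5, h4]
    have hinv : ∀ {a b : ↥(P : Subgroup G) →* ℂˣ}, a ≠ b⁻¹ → b ≠ a⁻¹ := fun {a b} h h' =>
      h (by rw [h']; exact (inv_inv a).symm)
    rcases hO ω hω with ⟨p, q⟩ | ⟨p, q⟩
    · refine hfin ψ hψ ω hω hω1.symm (hinv hω2) (fun χ hχ => ?_) ?_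
      · rw [hcross ψ hψ φ hφ hne1 hne2 hψX hφX.1 χ hχ,
          ← hcross ω hω φ hφ hω3 hω4 p hφX.1 χ hχ]
      · rw [hX2 ψ ω hψX p, hψX', zero_mul, add_zero]
    · refine hfin φ hφ ω hω hω3.symm (hinv hω4) (fun χ hχ => ?_) ?_
      · rw [← hcross ψ hψ φ hφ hne1 hne2 hψX hφX.1 χ hχ,
          hcross ψ hψ ω hω hω1.symm (hinv hω2) hψX p χ hχ]
      · rw [hφX.1, zero_mul, zero_add, hZ2 φ ω hφX.2 q]
  -- the coefficients of the regular indicator
  have hT : ∀ χ, χ ≠ T → classInner (lift P (delta (Nat.card (P : Subgroup G) : ℂ))) (χ : G → ℂ) =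
      ((∑ ψ ∈ Finset.univ.erase 1, c ψ χ : ℤ) : ℂ) / 2 := by
    intro χ hχ
    have hfun : (2 : ℂ) • lift P (delta (Nat.card (P : Subgroup G) : ℂ)) =
        (2 : ℂ) • (T : G → ℂ) + ∑ ψ ∈ Finset.univ.erase (1 : ↥(P : Subgroup G) →* ℂˣ),
          lift P (lam ψ) := by
      funext z
      obtain ⟨y, hy⟩ := exists_conj_pPart P z
      simp only [Pi.smul_apply, Pi.add_apply, Finset.sum_apply, smul_eq_mul,
        lift_eq (fused_delta _) hy, lift_eq (fused_lam h hP _) hy]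
      show 2 * delta _ y = 2 * 1 + _
      have hs0 := Finset.add_sum_erase _ (fun ψ => lam ψ y)
        (Finset.mem_univ (1 : ↥(P : Subgroup G) →* ℂˣ))
      have hall : ∑ ψ : ↥(P : Subgroup G) →* ℂˣ, lam ψ y =
          2 * delta (Nat.card (P : Subgroup G) : ℂ) y := by
        simp only [lam, Finset.sum_add_distrib]
        have hinv : ∑ ψ : ↥(P : Subgroup G) →* ℂˣ, (((ψ y)⁻¹ : ℂˣ) : ℂ) =
            ∑ ψ : ↥(P : Subgroup G) →* ℂˣ, (ψ y : ℂ) :=
          Equiv.sum_comp (Equiv.inv _) (fun ψ : ↥(P : Subgroup G) →* ℂˣ => (ψ y : ℂ))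
        rw [hinv, sum_all_hom hP h.comm, delta, hP]
        split_ifs <;> push_cast <;> ring
      rw [← hall, ← hs0]
      simp [lam]
      norm_num
    have h1 := congrArg (fun F => classInner F (χ : G → ℂ)) hfun
    simp only [Char.classInner_smul_left, Char.classInner_add_left, CharInd.classInner_sum_left,
      CharInd.classInner_irr_ne T.2 χ.2 (fun e => hχ (Subtype.ext e.symm)), (hc _).inner] at h1
    push_cast
    linear_combination h1 / 2
  have hsum : ∀ χ, ∑ ψ ∈ Finset.univ.erase (1 : ↥(P : Subgroup G) →* ℂˣ), c ψ χ =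
      2 * c ψ₁ χ + ∑ ψ ∈ O, c ψ χ := by
    intro χ
    have hci : c ψ₁⁻¹ χ = c ψ₁ χ := by
      have e : lam ψ₁⁻¹ = lam ψ₁ := funext fun y => lam_inv_hom ψ₁ y
      have h1 := (hc ψ₁⁻¹).inner χ
      rw [e, (hc ψ₁).inner χ] at h1
      exact_mod_cast h1.symm
    have hm : ψ₁⁻¹ ∈ (Finset.univ.erase (1 : ↥(P : Subgroup G) →* ℂˣ)).erase ψ₁ :=
      Finset.mem_erase.2 ⟨hψinv.symm, Finset.mem_erase.2 ⟨fun he => hψ1 ((inv_eq_one (α := ↥(P : Subgroup G) →* ℂˣ) (a := ψ₁)).1 he),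
        Finset.mem_univ _⟩⟩
    have hOe : O = ((Finset.univ.erase (1 : ↥(P : Subgroup G) →* ℂˣ)).erase ψ₁).erase ψ₁⁻¹ := by
      ext ψ
      simp only [O, Finset.mem_filter, Finset.mem_univ, true_and, Finset.mem_erase]
      tauto
    rw [← Finset.add_sum_erase _ _ (Finset.mem_erase.2 ⟨hψ1, Finset.mem_univ _⟩),
      ← Finset.add_sum_erase _ _ hm, ← hOe, hci]
    ring
  have hOcard : O.card = 6 := by
    have hOe : O = ((Finset.univ.erase (1 : ↥(P : Subgroup G) →* ℂˣ)).erase ψ₁).erase ψ₁⁻¹ := by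
      ext ψ
      simp only [O, Finset.mem_filter, Finset.mem_univ, true_and, Finset.mem_erase]
      tauto
    rw [hOe, Finset.card_erase_of_mem (Finset.mem_erase.2 ⟨hψinv.symm,
        Finset.mem_erase.2 ⟨fun he => hψ1 ((inv_eq_one (α := ↥(P : Subgroup G) →* ℂˣ) (a := ψ₁)).1 he), Finset.mem_univ _⟩⟩),
      Finset.card_erase_of_mem (Finset.mem_erase.2 ⟨hψ1, Finset.mem_univ _⟩),
      Finset.card_erase_of_mem (Finset.mem_univ _), Finset.card_univ, ← Nat.card_eq_fintype_card,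
      hcard]
  have hs2 : s * s = 1 := by rcases ht.cX with h | h <;> simp [hs, h]
  have ht2 : t * t = 1 := by rcases ht.cZ with h | h <;> simp [ht', h]
  have hsum2 : (∑ ψ ∈ O, c ψ X = 6 * s ∧ ∑ ψ ∈ O, c ψ Z = 0) ∨
      (∑ ψ ∈ O, c ψ X = 0 ∧ ∑ ψ ∈ O, c ψ Z = 6 * t) := by
    by_cases hex : ∃ ψ ∈ O, s * c ψ X = 1
    · obtain ⟨ψ, hψ, hψX⟩ := hex
      left
      have hall : ∀ φ ∈ O, c φ X = s ∧ c φ Z = 0 := by
        intro φ hφ
        have h1 := hsame ψ hψ φ hφ hψX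
        refine ⟨by linear_combination s * h1 - (c φ X) * hs2, ?_⟩
        rcases hO φ hφ with h' | h'
        · exact h'.2
        · rw [h'.1, mul_zero] at h1; omega
      rw [Finset.sum_congr rfl fun φ hφ => (hall φ hφ).1,
        Finset.sum_congr rfl fun φ hφ => (hall φ hφ).2, Finset.sum_const, Finset.sum_const_zero,
        hOcard, nsmul_eq_mul]
      exact ⟨by push_cast; ring, rfl⟩
    · right
      push Not at hex
      have hall : ∀ φ ∈ O, c φ X = 0 ∧ c φ Z = t := by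
        intro φ hφ
        obtain ⟨h1, h2⟩ := (hO φ hφ).resolve_left fun h' => hex φ hφ h'.1
        exact ⟨h1, by linear_combination t * h2 - (c φ Z) * ht2⟩
      rw [Finset.sum_congr rfl fun φ hφ => (hall φ hφ).1,
        Finset.sum_congr rfl fun φ hφ => (hall φ hφ).2]
      simp only [Finset.sum_const, hOcard, nsmul_eq_mul, mul_zero, smul_zero]
      exact ⟨trivial, by push_cast; ring⟩
  have hdvd : ∀ (χ : IrrCharacter G) (k u : ℤ) (n : ℕ), χ ≠ T → (χ : G → ℂ) 1 = n →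
      ∑ ψ ∈ Finset.univ.erase (1 : ↥(P : Subgroup G) →* ℂˣ), c ψ χ = 2 * (k * u) →
      (k = 1 ∨ k = 4) → (u = 1 ∨ u = -1) → ¬ 3 ∣ n := by
    intro χ k u n hχ hn hk hk' hu
    refine not_dvd_degree (P := P) χ (k * u) ?_ ?_ hn
    · rw [hT χ hχ, hk]
      push_cast
      ring
    · rcases hk' with rfl | rfl <;> rcases hu with rfl | rfl <;> decide
  have hint : ∀ g, ∃ n : ℤ, lift P (lam ψ₁) g = n := by
    intro g
    obtain ⟨y, hy⟩ := exists_conj_pPart P g
    rw [lift_eq (fused_lam h hP ψ₁) hy, lam]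
    set z : ℂ := (ψ₁ y : ℂ) with hz
    have hz3 : z ^ 3 = 1 := by
      have h13 : ψ₁ ^ 3 = 1 := orderOf_dvd_iff_pow_eq_one.1 hψ₁.dvd
      rw [hz, ← Units.val_pow_eq_pow_val, ← MonoidHom.pow_apply, h13, MonoidHom.one_apply,
        Units.val_one]
    rw [Units.val_inv_eq_inv_val, ← hz]
    rcases eq_or_ne z 1 with h1 | h1
    · exact ⟨2, by rw [h1]; norm_num⟩
    · refine ⟨-1, ?_⟩
      have h2 : z ^ 2 + z + 1 = 0 := by
        have : (z - 1) * (z ^ 2 + z + 1) = 0 := by linear_combination hz3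
        exact (mul_eq_zero.1 this).resolve_left (sub_ne_zero.2 h1)
      have hi : z⁻¹ = z ^ 2 := inv_eq_of_mul_eq_one_right (by linear_combination hz3)
      rw [hi]
      push_cast
      linear_combination h2
  refine ht.goodPair (hcl ψ₁) (hc ψ₁) hint ?_ ?_
  · rcases hsum2 with ⟨h1, -⟩ | ⟨h1, -⟩
    · exact hdvd X 4 s d ht.Xne ht.degX (by rw [hsum, h1]; ring) (Or.inr rfl) ht.cX
    · exact hdvd X 1 s d ht.Xne ht.degX (by rw [hsum, h1]; ring) (Or.inl rfl) ht.cX
  · rcases hsum2 with ⟨-, h1⟩ | ⟨-, h1⟩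
    · exact hdvd Z 1 t e ht.Zne ht.degZ (by rw [hsum, h1]; ring) (Or.inl rfl) ht.cZ
    · exact hdvd Z 4 t e ht.Zne ht.degZ (by rw [hsum, h1]; ring) (Or.inr rfl) ht.cZ

end Cfsg.Agent.NineSylow
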