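import Cfsg.Agent.BlkChar.SectionLift
import Cfsg.Agent.BlkChar.RegCriterion
import Cfsg.Agent.BlkChar.PModular
import Cfsg.Agent.CharInd.GenChar
import Cfsg.Agent.Char.InvolutionCount

/-!
# Inner products of lifted class functions and a congruence for degrees

For a Sylow subgroup `P` and functions on `P` respecting fusion, the inner product of the lifts is a
weighted sum over `P`.
-/

set_option autoImplicit false
set_option linter.style.haveILetI false
set_option linter.unusedSectionVars false

noncomputable section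

namespace Cfsg.Agent.NineSylow

open Cfsg Cfsg.Agent
open Cfsg.Agent.BlkChar.SectionLift
open Cfsg.Agent.Block
open scoped ComplexConjugate Classical

universe u

variable {G : Type u} [Group G] [Fintype G] {p : ℕ} [Fact p.Prime] {P : Sylow p G}

/-- The number of elements of `P` fused with `y`. -/
def fuseCard (y : (P : Subgroup G)) : ℕ :=
  Nat.card {y' : (P : Subgroup G) // IsConj (y : G) (y' : G)}

/-- The weight of an element of `P`. -/
def wt (y : (P : Subgroup G)) : ℂ :=
  ((regC p (y : G)).card : ℂ) /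
    ((Nat.card (Subgroup.centralizer ({(y : G)} : Set G)) : ℂ) * (fuseCard y : ℂ))

theorem fuseCard_pos (y : (P : Subgroup G)) : 0 < fuseCard y := by
  haveI : Nonempty {y' : (P : Subgroup G) // IsConj (y : G) (y' : G)} := ⟨⟨y, IsConj.refl _⟩⟩
  exact Nat.card_pos

theorem sum_lift {f : ↥(P : Subgroup G) → ℂ} (hf : Fused P f) :
    ∑ z : G, lift P f z = (Nat.card G : ℂ) * ∑ y : (P : Subgroup G), wt y * f y := by
  have h : ∀ y : (P : Subgroup G), (Nat.card G : ℂ) * (wt y * f y) =
      ∑ z : G, if IsConj (Element.pPart p z) (y : G) then f y / (fuseCard y : ℂ) else 0 := by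
    intro y
    obtain ⟨k, hk⟩ := Element.orderOf_eq_pow_of_mem_isPGroup P.2 y.2
    have hs := sum_section (G := G) (F := fun _ => (1 : ℂ)) (fun _ _ => rfl) hk
    simp only [Finset.sum_const, nsmul_eq_mul, mul_one] at hs
    rw [← Finset.sum_filter, Finset.sum_const, nsmul_eq_mul, wt]
    have hC : (Nat.card (Subgroup.centralizer ({(y : G)} : Set G)) : ℂ) ≠ 0 :=
      Nat.cast_ne_zero.2 Nat.card_pos.ne'
    have hm : (fuseCard y : ℂ) ≠ 0 := Nat.cast_ne_zero.2 (fuseCard_pos y).ne'
    field_simp
    linear_combination (f y) * hs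
  rw [Finset.mul_sum, Finset.sum_congr rfl (fun y _ => h y), Finset.sum_comm]
  refine Finset.sum_congr rfl fun z _ => ?_
  obtain ⟨y₀, hy₀⟩ := exists_conj_pPart P z
  have hset : ∀ y : (P : Subgroup G),
      IsConj (Element.pPart p z) (y : G) ↔ IsConj (y₀ : G) (y : G) :=
    fun y => ⟨fun h => hy₀.symm.trans h, fun h => hy₀.trans h⟩
  have hm : ∀ y : (P : Subgroup G), IsConj (y₀ : G) (y : G) → fuseCard y = fuseCard y₀ := by
    intro y hy
    refine Nat.card_congr (Equiv.subtypeEquivRight fun y' => ?_)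
    exact ⟨fun h => hy.trans h, fun h => hy.symm.trans h⟩
  rw [lift_eq hf hy₀, ← Finset.sum_filter, Finset.sum_congr rfl (fun y hy => by
      have hc := (hset y).1 (Finset.mem_filter.1 hy).2
      rw [hf y y₀ hc.symm, hm y hc] :
    ∀ y ∈ Finset.univ.filter (fun y : (P : Subgroup G) => IsConj (Element.pPart p z) (y : G)),
      f y / (fuseCard y : ℂ) = f y₀ / (fuseCard y₀ : ℂ)), Finset.sum_const, nsmul_eq_mul]
  have hcard : (Finset.univ.filter
      (fun y : (P : Subgroup G) => IsConj (Element.pPart p z) (y : G))).card = fuseCard y₀ := by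
    rw [fuseCard, Nat.card_eq_fintype_card, Fintype.card_subtype]
    congr 1
    ext y
    simp only [Finset.mem_filter, Finset.mem_univ, true_and, hset y]
  rw [hcard, mul_div_cancel₀ _ (Nat.cast_ne_zero.2 (fuseCard_pos y₀).ne')]

theorem fused_mul_conj {f f' : ↥(P : Subgroup G) → ℂ} (hf : Fused P f) (hf' : Fused P f') :
    Fused P (fun y => f y * conj (f' y)) := fun y y' h => by
  show f y * conj (f' y) = f y' * conj (f' y')
  rw [hf y y' h, hf' y y' h]

theorem fused_const (c : ℂ) : Fused P (fun _ => c) := fun _ _ _ => rfl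

theorem lift_const (c : ℂ) (z : G) : lift P (fun _ => c) z = c := by
  obtain ⟨y, hy⟩ := exists_conj_pPart P z
  rw [lift_eq (fused_const c) hy]

theorem classInner_lift {f f' : ↥(P : Subgroup G) → ℂ} (hf : Fused P f) (hf' : Fused P f') :
    classInner (lift P f) (lift P f') =
      ∑ y : (P : Subgroup G), wt y * (f y * conj (f' y)) := by
  have h : ∀ z : G, lift P f z * conj (lift P f' z) = lift P (fun y => f y * conj (f' y)) z := by
    intro z
    obtain ⟨y, hy⟩ := exists_conj_pPart P z
    rw [lift_eq hf hy, lift_eq hf' hy, lift_eq (fused_mul_conj hf hf') hy]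
  rw [classInner, Finset.sum_congr rfl fun z _ => h z, sum_lift (fused_mul_conj hf hf'), ← mul_assoc,
    inv_mul_cancel₀ (Nat.cast_ne_zero.2 Nat.card_pos.ne'), one_mul]

theorem lift_one_eq : lift P (fun _ => (1 : ℂ)) = ((Char.trivialIrr G : IrrCharacter G) : G → ℂ) := by
  funext z
  rw [lift_const]
  rfl

theorem classInner_lift_trivial {f : ↥(P : Subgroup G) → ℂ} (hf : Fused P f) :
    classInner (lift P f) ((Char.trivialIrr G : IrrCharacter G) : G → ℂ) =
      ∑ y : (P : Subgroup G), wt y * f y := by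
  rw [← lift_one_eq (P := P), classInner_lift hf (fused_const 1)]
  simp

theorem sum_wt : ∑ y : (P : Subgroup G), wt y = 1 := by
  have h := classInner_lift_trivial (f := fun _ : (P : Subgroup G) => (1 : ℂ)) (fused_const 1)
  rw [lift_one_eq, CharInd.classInner_irr_self (Char.trivialIrr G).2] at h
  simpa using h.symm

/-- A centraliser with a normal complement to `P` meets the `p`-regular elements in that
complement. -/
theorem card_regC_mul (y : G) (hy : y ∈ (P : Subgroup G))
    (hab : IsMulCommutative (P : Subgroup G))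
    (hN : ∀ n ∈ Subgroup.normalizer ((P : Subgroup G) : Set G), n * y * n⁻¹ = y →
      n ∈ Subgroup.centralizer ((P : Subgroup G) : Set G)) :
    Nat.card (P : Subgroup G) * (regC p y).card =
      Nat.card (Subgroup.centralizer ({y} : Set G)) := by
  set H := Subgroup.centralizer ({y} : Set G) with hH
  have hPH : (P : Subgroup G) ≤ H := fun x hx =>
    Subgroup.mem_centralizer_singleton_iff.2
      (congrArg Subtype.val (hab.is_comm.comm ⟨x, hx⟩ ⟨y, hy⟩) :)
  let Q : Sylow p H := P.subtype hPH
  have hQ : ∀ x : H, x ∈ (Q : Subgroup H) ↔ (x : G) ∈ (P : Subgroup G) := fun x => by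
    show x ∈ ((P.subtype hPH : Sylow p H) : Subgroup H) ↔ _
    rw [Sylow.coe_subtype]
    exact Subgroup.mem_subgroupOf
  have hle : Subgroup.normalizer ((Q : Subgroup H) : Set H) ≤
      Subgroup.centralizer ((Q : Subgroup H) : Set H) := by
    intro n hn
    rw [Subgroup.mem_normalizer_iff] at hn
    have hnN : (n : G) ∈ Subgroup.normalizer ((P : Subgroup G) : Set G) := by
      rw [Subgroup.mem_normalizer_iff]
      intro x
      constructor
      · intro hx
        have := (hn ⟨x, hPH hx⟩).1 ((hQ _).2 hx)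
        simpa using (hQ _).1 this
      · intro hx
        have hxH : (n : G) * x * (n : G)⁻¹ ∈ H := hPH hx
        have hxH' : x ∈ H := by
          have := H.mul_mem (H.mul_mem (H.inv_mem n.2) hxH) n.2
          simpa [mul_assoc] using this
        have := (hn ⟨x, hxH'⟩).2 ((hQ _).2 (by simpa using hx))
        exact (hQ _).1 this
    have hfix : (n : G) * y * (n : G)⁻¹ = y := by
      rw [mul_inv_eq_iff_eq_mul]
      exact Subgroup.mem_centralizer_singleton_iff.1 n.2
    have hc := hN _ hnN hfix
    rw [Subgroup.mem_centralizer_iff] at hc ⊢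
    intro x hx
    exact Subtype.ext (hc (x : G) ((hQ x).1 hx))
  have hcompl := MonoidHom.ker_transferSylow_isComplement' Q hle
  set K := (MonoidHom.transferSylow Q hle).ker with hK
  have hQcard : Nat.card (Q : Subgroup H) = Nat.card (P : Subgroup G) := by
    refine Nat.card_congr ⟨fun x => ⟨_, (hQ x).1 x.2⟩, fun x => ⟨⟨x, hPH x.2⟩, (hQ _).2 x.2⟩,
      fun x => rfl, fun x => rfl⟩
  have hcop : (Nat.card K).Coprime p := by
    rw [← hcompl.index_eq_card]
    exact ((Fact.out : p.Prime).coprime_iff_not_dvd.2 Q.not_dvd_index).symm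
  have hreg : ∀ x : H, x ∈ K ↔ ¬ p ∣ orderOf x := by
    intro x
    constructor
    · intro hx hd
      exact (Fact.out : p.Prime).coprime_iff_not_dvd.1 hcop.symm
        (hd.trans (by rw [← Subgroup.orderOf_mk x hx]; exact orderOf_dvd_natCard _))
    · intro hx
      rw [hK, MonoidHom.mem_ker, ← orderOf_eq_one_iff]
      obtain ⟨k, hk⟩ := IsPGroup.iff_card.1 Q.2
      have h1 := orderOf_map_dvd (MonoidHom.transferSylow Q hle) x
      have h2 : orderOf (MonoidHom.transferSylow Q hle x) ∣ p ^ k := hk ▸ orderOf_dvd_natCard _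
      exact Nat.eq_one_of_dvd_coprimes
        ((((Fact.out : p.Prime).coprime_iff_not_dvd.2 hx)).symm.pow_right k) h1 h2
  have hR : (regC p y).card = Nat.card K := by
    rw [← Fintype.card_coe, ← Nat.card_eq_fintype_card]
    refine Nat.card_congr ⟨fun x => ⟨⟨x, ?_⟩, ?_⟩, fun x => ⟨((x : H) : G), ?_⟩,
      fun x => rfl, fun x => rfl⟩
    · obtain ⟨hc, -⟩ := (Finset.mem_filter.1 x.2).2
      exact Subgroup.mem_centralizer_singleton_iff.2 hc.symm.eq
    · rw [hreg, ← Subgroup.orderOf_coe]
      exact (Finset.mem_filter.1 x.2).2.2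
    · refine Finset.mem_filter.2 ⟨Finset.mem_univ _, ?_, ?_⟩
      · exact (Subgroup.mem_centralizer_singleton_iff.1 (x : H).2).symm
      · rw [Subgroup.orderOf_coe]
        exact (hreg _).1 x.2
  rw [hR, ← hQcard, mul_comm]
  exact hcompl.card_mul_card

/-- The translates by a nontrivial `p`-element of the regular part of its centraliser are
disjoint. -/
theorem orderOf_mul_card_regC_le (y : G) {k : ℕ} (hy : orderOf y = p ^ k) :
    orderOf y * (regC p y).card ≤ Nat.card (Subgroup.centralizer ({y} : Set G)) := by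
  have hmem : ∀ x ∈ regC p y, ∀ i : ℕ, y ^ i * x ∈ Subgroup.centralizer ({y} : Set G) := by
    intro x hx i
    refine mul_mem (pow_mem (Subgroup.mem_centralizer_singleton_iff.2 rfl) i) ?_
    exact Subgroup.mem_centralizer_singleton_iff.2 (Finset.mem_filter.1 hx).2.1.symm.eq
  have hdec : ∀ x ∈ regC p y, ∀ i : ℕ, y ^ i = Element.pPart p (y ^ i * x) ∧
      x = Element.pComplPart p (y ^ i * x) := by
    intro x hx i
    obtain ⟨hc, hr⟩ := (Finset.mem_filter.1 hx).2
    obtain ⟨j, -, hj⟩ := (Nat.dvd_prime_pow (Fact.out : p.Prime)).1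
      (hy ▸ orderOf_pow_dvd (x := y) i)
    exact Element.eq_pPart (Fact.out : p.Prime) (hc.pow_left i) rfl hj
      (((Fact.out : p.Prime).coprime_iff_not_dvd).2 hr).symm
  have hinj : Function.Injective (fun t : Fin (orderOf y) × {x // x ∈ regC p y} =>
      (⟨y ^ (t.1 : ℕ) * (t.2 : G), hmem _ t.2.2 _⟩ : Subgroup.centralizer ({y} : Set G))) := by
    rintro ⟨i, x⟩ ⟨j, x'⟩ h
    have h' : y ^ (i : ℕ) * (x : G) = y ^ (j : ℕ) * (x' : G) := congrArg Subtype.val h
    obtain ⟨a1, a2⟩ := hdec _ x.2 i
    obtain ⟨b1, b2⟩ := hdec _ x'.2 j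
    rw [h'] at a1 a2
    refine Prod.ext (Fin.ext (pow_injOn_Iio_orderOf i.2 j.2 (a1.trans b1.symm))) (Subtype.ext ?_)
    exact a2.trans b2.symm
  have := Nat.card_le_card_of_injective _ hinj
  rwa [Nat.card_prod, Nat.card_fin, Nat.card_eq_fintype_card, Fintype.card_coe] at this

/-- The function `c` at the identity and `0` elsewhere. -/
def delta (c : ℂ) (y : (P : Subgroup G)) : ℂ := if y = 1 then c else 0

theorem fused_delta (c : ℂ) : Fused P (delta c) := fun y y' h => by
  have h1 : y = 1 ↔ y' = 1 := by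
    constructor
    · rintro rfl
      rw [Subgroup.coe_one] at h
      exact Subtype.ext (isConj_one_right.1 h)
    · rintro rfl
      rw [Subgroup.coe_one] at h
      exact Subtype.ext (isConj_one_left.1 h)
  simp only [delta, h1]

theorem lift_delta (c : ℂ) (z : G) :
    lift P (delta c) z = if p ∣ orderOf z then 0 else c := by
  obtain ⟨y, hy⟩ := exists_conj_pPart P z
  split_ifs with hd
  · rw [lift_eq (fused_delta c) hy, delta, if_neg]
    rintro rfl
    rw [Subgroup.coe_one] at hy
    have h1 := Element.orderOf_pPart_eq_pow (p := p) (Fact.out : p.Prime) z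
    rw [isConj_one_left.1 hy, orderOf_one] at h1
    have h2 := (Fact.out : p.Prime).factorization_pos_of_dvd (orderOf_pos z).ne' hd
    exact absurd h1.symm (Nat.one_lt_pow h2.ne' (Fact.out : p.Prime).one_lt).ne'
  · rw [lift_regular (fused_delta c) hd, delta, if_pos rfl]

/-- The degree of a character meeting the regular indicator nontrivially modulo `p` is prime to
`p`. -/
theorem not_dvd_degree (χ : IrrCharacter G) (T : ℤ)
    (hT : classInner (lift P (delta (Nat.card (P : Subgroup G) : ℂ))) (χ : G → ℂ) = T)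
    (hTp : ¬ (p : ℤ) ∣ T) {d : ℕ} (hd : (χ : G → ℂ) 1 = d) : ¬ p ∣ d := by
  obtain ⟨M, hM⟩ := BlkChar.exists_isPModular p (Fact.out : p.Prime)
  haveI : M.IsPrime := hM.2.1.isPrime
  intro hpd
  set K : ℕ := (P : Subgroup G).index with hK
  have hcG : (Nat.card G : ℂ) = (Nat.card (P : Subgroup G) : ℂ) * (K : ℂ) := by
    rw [← Nat.cast_mul, Subgroup.card_mul_index]
  have hR : BlkChar.regTotal p (χ : G → ℂ) = ((K * T : ℤ) : ℂ) := by
    have h1 : classInner (lift P (delta (Nat.card (P : Subgroup G) : ℂ))) (χ : G → ℂ) =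
        (Nat.card G : ℂ)⁻¹ *
          ((Nat.card (P : Subgroup G) : ℂ) * conj (BlkChar.regTotal p (χ : G → ℂ))) := by
      rw [classInner, BlkChar.regTotal_eq, map_sum (starRingEnd ℂ), Finset.mul_sum (a := (Nat.card (P : Subgroup G) : ℂ))]
      congr 1
      rw [Finset.sum_filter]
      refine Finset.sum_congr rfl fun z _ => ?_
      rw [lift_delta]
      by_cases h : p ∣ orderOf z <;> simp [h]
    rw [hT, hcG] at h1
    have h2 : conj (BlkChar.regTotal p (χ : G → ℂ)) = ((K * T : ℤ) : ℂ) := by
      have hc : (Nat.card (P : Subgroup G) : ℂ) ≠ 0 := Nat.cast_ne_zero.2 Nat.card_pos.ne'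
      have hK0 : (K : ℂ) ≠ 0 := Nat.cast_ne_zero.2 Subgroup.index_ne_zero_of_finite
      field_simp at h1
      push_cast
      linear_combination -h1
    have h3 := congrArg conj h2
    rwa [Complex.conj_conj, map_intCast] at h3
  have hd0 : (d : ℂ) ≠ 0 := by
    rw [← hd]
    exact Char.irr_one_ne_zero χ.2
  have hKp : ¬ (p : ℤ) ∣ K := fun h => P.not_dvd_index (Int.natCast_dvd_natCast.1 h)
  have key : (p : ℤ) ∣ K * T := by
    by_cases hB : χ ∈ principalBlock M G
    · have h := memLocalIdeal_mul_left (memLocalRing_natCast (M := M) d)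
        (BlkChar.regTotal_div_sub_mem hM χ hB)
      rw [hR, hd, mul_sub, mul_div_cancel₀ _ hd0] at h
      have h' : MemLocalIdeal M
          ((((d * Nat.card {x : G // ¬ p ∣ orderOf x} : ℕ) : ℤ) - K * T : ℤ) : ℂ) := by
        convert h using 1
        push_cast
        ring
      have h'' := (memLocalIdeal_intCast_iff hM _).1 h'
      exact (dvd_sub_right (Int.natCast_dvd_natCast.2 (dvd_mul_of_dvd_left hpd _))).1 h''
    · rw [BlkChar.mem_principalBlock_iff_regTotal hM, not_not] at hB
      have h := memLocalIdeal_mul_left (memLocalRing_natCast (M := M) d) hB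
      rw [hR, hd, mul_div_cancel₀ _ hd0] at h
      exact (memLocalIdeal_intCast_iff hM _).1 h
  rcases (Nat.prime_iff_prime_int.1 (Fact.out : p.Prime)).dvd_or_dvd key with h | h
  · exact hKp h
  · exact hTp h

end Cfsg.Agent.NineSylow
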