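import Cfsg.Agent.NineSylow.Action
import Cfsg.Agent.NineSylow.InvPair
import Cfsg.Agent.NineSylow.FourPair
import Cfsg.Agent.NineSylow.Arith
import Cfsg.Agent.CharTwo.AltSixAction
import Cfsg.Agent.RecogA.A6Orders

/-!
# Simple groups of order `9 * 2 ^ a * q ^ b` with three classes of `3`-elements
-/

set_option autoImplicit false
set_option linter.style.haveILetI false
set_option linter.unusedSectionVars false

namespace Cfsg.Agent.NineSylow

open Cfsg Cfsg.Agent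

universe u

variable {G : Type u} [Group G] [Finite G]

theorem card_sylow_three {q a b : ℕ} (hq : q.Prime) (hq3 : q ≠ 3)
    (hcard : Nat.card G = 9 * 2 ^ a * q ^ b) (P : Sylow 3 G) : Nat.card (P : Subgroup G) = 9 := by
  rw [P.card_eq_multiplicity, hcard, Nat.factorization_mul (by positivity)
    (pow_ne_zero _ hq.ne_zero), Nat.factorization_mul (by norm_num) (pow_ne_zero _ two_ne_zero),
    Finsupp.add_apply, Finsupp.add_apply, hq.factorization_pow, Nat.prime_two.factorization_pow,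
    show (9 : ℕ) = 3 ^ 2 by norm_num, Nat.prime_three.factorization_pow]
  simp [hq3]

theorem exists_conj_mem (P : Sylow 3 G) {g : G} (hg : orderOf g ∣ 9) :
    ∃ a : (P : Subgroup G), IsConj g (a : G) := by
  have hp : IsPGroup 3 (Subgroup.zpowers g) := by
    obtain ⟨k, -, hk⟩ := (Nat.dvd_prime_pow Nat.prime_three).1 (show orderOf g ∣ 3 ^ 2 from hg)
    exact IsPGroup.of_card (n := k) ((Nat.card_zpowers g).trans hk)
  obtain ⟨Q, hQ⟩ := hp.exists_le_sylow
  obtain ⟨x, rfl⟩ := MulAction.exists_smul_eq G Q P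
  refine ⟨⟨x * g * x⁻¹, ?_⟩, isConj_iff.2 ⟨x, rfl⟩⟩
  exact ⟨g, hQ (Subgroup.mem_zpowers g), rfl⟩

theorem exists_three (P : Sylow 3 G)
    (h : 3 ≤ Nat.card {C : ConjClasses G // ∃ g ∈ C.carrier, g ≠ 1 ∧ orderOf g ∣ 9}) :
    ∃ a b c : (P : Subgroup G), a ≠ 1 ∧ b ≠ 1 ∧ c ≠ 1 ∧ ¬ IsConj (a : G) (b : G) ∧
      ¬ IsConj (a : G) (c : G) ∧ ¬ IsConj (b : G) (c : G) := by
  classical
  haveI := Fintype.ofFinite {C : ConjClasses G // ∃ g ∈ C.carrier, g ≠ 1 ∧ orderOf g ∣ 9}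
  rw [Nat.card_eq_fintype_card] at h
  obtain ⟨⟨A, a, haA, ha1, ha⟩, ⟨B, b, hbB, hb1, hb⟩, ⟨C, c, hcC, hc1, hc⟩, hAB, hAC, hBC⟩ :=
    Fintype.two_lt_card_iff.1 h
  rw [ConjClasses.mem_carrier_iff_mk_eq] at haA hbB hcC
  obtain ⟨a', haa⟩ := exists_conj_mem P ha
  obtain ⟨b', hbb⟩ := exists_conj_mem P hb
  obtain ⟨c', hcc⟩ := exists_conj_mem P hc
  have hne : ∀ (g : G) (y : (P : Subgroup G)), IsConj g (y : G) → g ≠ 1 → y ≠ 1 := by
    rintro g y hy hg rfl
    obtain ⟨x, hx⟩ := isConj_iff.1 hy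
    exact hg (conj_eq_one_iff.1 (hx.trans (Subgroup.coe_one _)))
  refine ⟨a', b', c', hne a a' haa ha1, hne b b' hbb hb1, hne c c' hcc hc1, fun e => hAB ?_,
    fun e => hAC ?_, fun e => hBC ?_⟩
  · exact Subtype.ext (haA ▸ hbB ▸ ConjClasses.mk_eq_mk_iff_isConj.2 (haa.trans (e.trans hbb.symm)))
  · exact Subtype.ext (haA ▸ hcC ▸ ConjClasses.mk_eq_mk_iff_isConj.2 (haa.trans (e.trans hcc.symm)))
  · exact Subtype.ext (hbB ▸ hcC ▸ ConjClasses.mk_eq_mk_iff_isConj.2 (hbb.trans (e.trans hcc.symm)))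

theorem goodPair_of_three [IsSimpleGroup G] (hna : ¬ IsMulCommutative G) {P : Sylow 3 G}
    (hP : Nat.card (P : Subgroup G) = 9)
    (h3 : ∃ a b c : (P : Subgroup G), a ≠ 1 ∧ b ≠ 1 ∧ c ≠ 1 ∧ ¬ IsConj (a : G) (b : G) ∧
      ¬ IsConj (a : G) (c : G) ∧ ¬ IsConj (b : G) (c : G)) : GoodPair G := by
  letI := Fintype.ofFinite G
  rcases cases_of_three hna hP h3 with h | ⟨e, f, h⟩
  · exact goodPair_inv h hP
  · exact goodPair_four h hP

/-- The alternating group of degree six has only two classes of nontrivial `3`-elements. -/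
theorem not_alt_six {P : Sylow 3 G} (e : G ≃* ↥(alternatingGroup (Fin 6)))
    (hP : Nat.card (P : Subgroup G) = 9)
    (h3 : ∃ a b c : (P : Subgroup G), a ≠ 1 ∧ b ≠ 1 ∧ c ≠ 1 ∧ ¬ IsConj (a : G) (b : G) ∧
      ¬ IsConj (a : G) (c : G) ∧ ¬ IsConj (b : G) (c : G)) : False := by
  obtain ⟨a, b, c, ha, hb, hc, hab, hac, hbc⟩ := h3
  have hkey : ∀ y : (P : Subgroup G), y ≠ 1 → e y ≠ 1 ∧ (e y) ^ 3 = 1 := by
    intro y hy
    refine ⟨fun h => hy (Subtype.ext (e.injective (h.trans (map_one e).symm))), ?_⟩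
    have h9 : (e y) ^ 9 = 1 := by
      rw [← map_pow, ← Subgroup.coe_pow, orderOf_dvd_iff_pow_eq_one.1 (hP ▸ orderOf_dvd_natCard y),
        Subgroup.coe_one, map_one]
    rcases RecogA.A6_pow_cases (e y) with h | h | h
    · have h1 : (e y) ^ 1 = 1 := pow_gcd_eq_one.2 ⟨h9, h⟩
      rw [pow_one] at h1
      rw [h1, one_pow]
    · exact h
    · have h1 : (e y) ^ 1 = 1 := pow_gcd_eq_one.2 ⟨h9, h⟩
      rw [pow_one] at h1
      rw [h1, one_pow]
  have hpair : ∀ y z : (P : Subgroup G), y ≠ 1 → z ≠ 1 →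
      (Equiv.Perm.IsThreeCycle (e y : Equiv.Perm (Fin 6)) ↔
        Equiv.Perm.IsThreeCycle (e z : Equiv.Perm (Fin 6))) → IsConj (y : G) z := by
    intro y z hy hz hiff
    have hc : IsConj (e y) (e z) := by
      by_cases h : Equiv.Perm.IsThreeCycle (e y : Equiv.Perm (Fin 6))
      · exact alternatingGroup.isThreeCycle_isConj (by simp) h (hiff.1 h)
      · exact CharTwo.AltSix.isConj_double (hkey y hy).2 (hkey y hy).1 h (hkey z hz).2 (hkey z hz).1
          fun hz3 => h (hiff.2 hz3)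
    simpa using e.symm.toMonoidHom.map_isConj hc
  by_cases h1 : Equiv.Perm.IsThreeCycle (e a : Equiv.Perm (Fin 6)) <;>
    by_cases h2 : Equiv.Perm.IsThreeCycle (e b : Equiv.Perm (Fin 6)) <;>
    by_cases h3' : Equiv.Perm.IsThreeCycle (e c : Equiv.Perm (Fin 6)) <;>
    first
      | exact hab (hpair a b ha hb (iff_of_true h1 h2))
      | exact hab (hpair a b ha hb (iff_of_false h1 h2))
      | exact hac (hpair a c ha hc (iff_of_true h1 h3'))
      | exact hac (hpair a c ha hc (iff_of_false h1 h3'))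
      | exact hbc (hpair b c hb hc (iff_of_true h2 h3'))
      | exact hbc (hpair b c hb hc (iff_of_false h2 h3'))

end Cfsg.Agent.NineSylow
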