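import Cfsg.Agent.NineSylow.Lift
import Cfsg.Agent.OddChar.PrimeDade.TIGalois
import Cfsg.Agent.DefOne.AutC

/-!
# Generalized characters of norm three through the principal character

Such a character with value two at the identity is `1 + sX + tZ` for irreducible `X`, `Z` of
consecutive degrees, which are rational when the character is.
-/

set_option autoImplicit false
set_option linter.style.haveILetI false
set_option linter.unusedSectionVars false

noncomputable section

namespace Cfsg.Agent.NineSylow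

open Cfsg Cfsg.Agent
open scoped ComplexConjugate Classical

universe u

variable {G : Type u} [Group G] [Fintype G]

/-- The coefficients of a generalized character. -/
structure Coef (θ : G → ℂ) (c : IrrCharacter G → ℤ) : Prop where
  inner : ∀ χ : IrrCharacter G, classInner θ (χ : G → ℂ) = c χ

theorem exists_coef {θ : G → ℂ} (h : IsGeneralizedCharacter G θ) :
    ∃ c : IrrCharacter G → ℤ, Coef θ c := by
  choose c hc using fun χ : IrrCharacter G => CharInd.genChar_inner_int h χ.2
  exact ⟨c, ⟨hc⟩⟩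

variable [Fintype (IrrCharacter G)]

theorem Coef.eq_sum {θ : G → ℂ} {c : IrrCharacter G → ℤ} (hθ : IsClassFunction G θ)
    (h : Coef θ c) (g : G) : θ g = ∑ χ : IrrCharacter G, (c χ : ℂ) * (χ : G → ℂ) g := by
  have h1 := Char.eq_sum_classInner_smul hθ
  conv_lhs => rw [h1]
  rw [Finset.sum_apply]
  refine Finset.sum_congr (by ext; simp) fun χ _ => ?_
  rw [Pi.smul_apply, h.inner, smul_eq_mul]

theorem Coef.inner_eq {θ φ : G → ℂ} {a b : IrrCharacter G → ℤ} (hθ : IsClassFunction G θ)
    (hφ : IsClassFunction G φ) (ha : Coef θ a) (hb : Coef φ b) :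
    classInner θ φ = ((∑ χ : IrrCharacter G, a χ * b χ : ℤ) : ℂ) := by
  refine CharInd.genChar_classInner (funext fun g => ?_) (funext fun g => ?_)
  · rw [ha.eq_sum hθ g, Finset.sum_apply]
    rfl
  · rw [hb.eq_sum hφ g, Finset.sum_apply]
    rfl

/-- A generalized character `1 + sX + tZ` with consecutive rational degrees. -/
structure Triple (θ : G → ℂ) (c : IrrCharacter G → ℤ) (X Z : IrrCharacter G) (d e : ℕ) : Prop where
  Xne : X ≠ Char.trivialIrr G
  Zne : Z ≠ Char.trivialIrr G
  ne : X ≠ Z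
  cX : c X = 1 ∨ c X = -1
  cZ : c Z = 1 ∨ c Z = -1
  ctriv : c (Char.trivialIrr G) = 1
  support : ∀ χ, χ ≠ Char.trivialIrr G → χ ≠ X → χ ≠ Z → c χ = 0
  degX : (X : G → ℂ) 1 = d
  degZ : (Z : G → ℂ) 1 = e
  deg : c X * d + c Z * e = 1

theorem exists_triple {θ : G → ℂ} {c : IrrCharacter G → ℤ} (hθ : IsClassFunction G θ)
    (h : Coef θ c) (h3 : classInner θ θ = 3)
    (h1 : classInner θ ((Char.trivialIrr G : IrrCharacter G) : G → ℂ) = 1) (hone : θ 1 = 2) :
    ∃ X Z d e, Triple θ c X Z d e := by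
  set T := Char.trivialIrr G
  have hT : c T = 1 := by
    rw [h.inner] at h1
    exact_mod_cast h1
  have hsq : ∑ χ : IrrCharacter G, c χ * c χ = 3 := by
    have := h.inner_eq hθ hθ h
    rw [h3] at this
    exact_mod_cast this.symm
  rw [← Finset.add_sum_erase _ _ (Finset.mem_univ T), hT] at hsq
  set S := (Finset.univ.erase T).filter fun χ => c χ ≠ 0 with hS
  have hS2 : ∑ χ ∈ S, c χ * c χ = 2 := by
    rw [hS, Finset.sum_filter]
    rw [Finset.sum_congr rfl (g := fun χ => c χ * c χ) fun χ _ => by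
      by_cases h : c χ = 0 <;> simp [h]]
    omega
  have hge : ∀ χ ∈ S, 1 ≤ c χ * c χ := fun χ hχ =>
    Int.add_one_le_iff.2 (mul_self_pos.2 (Finset.mem_filter.1 hχ).2)
  have hcard : S.card = 2 := by
    have h1 : (S.card : ℤ) ≤ 2 := by
      rw [← hS2, ← nsmul_one, ← Finset.sum_const]
      exact Finset.sum_le_sum hge
    rcases Nat.lt_or_ge S.card 2 with hlt | hge2
    · exfalso
      interval_cases hc : S.card
      · rw [Finset.card_eq_zero.1 hc] at hS2
        simp at hS2
      · obtain ⟨x, hx⟩ := Finset.card_eq_one.1 hc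
        rw [hx, Finset.sum_singleton] at hS2
        have h3 : (c x).natAbs * (c x).natAbs = 2 := by
          rw [← Int.natAbs_mul, hS2]; rfl
        have : (c x).natAbs ≤ 2 := by
          by_contra hh
          push Not at hh
          have := Nat.mul_le_mul hh.le hh.le
          omega
        interval_cases hh : (c x).natAbs <;> omega
    · omega
  obtain ⟨X, Z, hne, hXZ⟩ := Finset.card_eq_two.1 hcard
  have hX : X ∈ S := by rw [hXZ]; simp
  have hZ : Z ∈ S := by rw [hXZ]; simp
  rw [hXZ, Finset.sum_pair hne] at hS2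
  have hu : ∀ x : ℤ, 1 ≤ x * x → x * x ≤ 1 → x = 1 ∨ x = -1 := fun x h1 h2 =>
    mul_self_eq_one_iff.1 (le_antisymm h2 h1)
  obtain ⟨d, -, hd, -⟩ := Char.irr_degree_dvd_card X.2
  obtain ⟨e, -, he, -⟩ := Char.irr_degree_dvd_card Z.2
  have hX1 := hge X hX
  have hZ1 := hge Z hZ
  have hsupp : ∀ χ, χ ≠ T → χ ≠ X → χ ≠ Z → c χ = 0 := by
    intro χ h1 h2 h3
    by_contra h0
    have : χ ∈ S := Finset.mem_filter.2 ⟨Finset.mem_erase.2 ⟨h1, Finset.mem_univ _⟩, h0⟩
    rw [hXZ] at this
    simp [h2, h3] at this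
  refine ⟨X, Z, d, e, (Finset.mem_erase.1 (Finset.mem_filter.1 hX).1).1,
    (Finset.mem_erase.1 (Finset.mem_filter.1 hZ).1).1, hne, hu _ hX1 (by omega),
    hu _ hZ1 (by omega), hT, hsupp, hd, he, ?_⟩
  have hval := h.eq_sum hθ (1 : G)
  rw [hone, ← Finset.add_sum_erase _ _ (Finset.mem_univ T)] at hval
  have hrest : ∑ χ ∈ Finset.univ.erase T, (c χ : ℂ) * (χ : G → ℂ) 1 =
      ∑ χ ∈ ({X, Z} : Finset (IrrCharacter G)), (c χ : ℂ) * (χ : G → ℂ) 1 := by
    refine (Finset.sum_subset ?_ ?_).symm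
    · intro χ hχ
      rw [← hXZ] at hχ
      simpa using (Finset.mem_erase.1 (Finset.mem_filter.1 hχ).1).1
    · intro χ hχ hχ'
      simp only [Finset.mem_erase] at hχ
      simp only [Finset.mem_insert, Finset.mem_singleton, not_or] at hχ'
      rw [hsupp χ hχ.1 hχ'.1 hχ'.2]
      simp
  rw [hrest, Finset.sum_pair hne, hT, hd, he] at hval
  have hT1 : ((T : IrrCharacter G) : G → ℂ) 1 = 1 := rfl
  rw [hT1] at hval
  have : ((c X * d + c Z * e : ℤ) : ℂ) = ((1 : ℤ) : ℂ) := by
    push_cast
    push_cast at hval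
    linear_combination -hval
  exact_mod_cast this

/-- The data extracted from the principal block: rational characters of consecutive degrees prime
to three. -/
def GoodPair (G : Type u) [Group G] : Prop :=
  ∃ (X Z : IrrCharacter G) (d e : ℕ), (X : G → ℂ) ≠ (fun _ => 1) ∧ (Z : G → ℂ) ≠ (fun _ => 1) ∧
    (X : G → ℂ) 1 = d ∧ (Z : G → ℂ) 1 = e ∧ (d = e + 1 ∨ e = d + 1) ∧ ¬ 3 ∣ d ∧ ¬ 3 ∣ e ∧
    (∀ g : G, ∃ n : ℤ, (X : G → ℂ) g = n) ∧ ∀ g : G, ∃ n : ℤ, (Z : G → ℂ) g = n

theorem int_of_galois (χ : IrrCharacter G)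
    (h : ∀ σ : ℂ →+* ℂ, ∀ g, σ ((χ : G → ℂ) g) = (χ : G → ℂ) g) (g : G) :
    ∃ n : ℤ, (χ : G → ℂ) g = n := by
  haveI : NeZero (Nat.card G) := ⟨Nat.card_pos.ne'⟩
  refine GalAvg.exists_int_of_const
    (GalAvg.isCharacter_pow_mem (n := Nat.card G) (Char.isCharacter_of_irr χ.2) g pow_card_eq_one')
    fun a => ?_
  obtain ⟨σ, hσ⟩ := DefOne.exists_autC_pow (GalAvg.zeta_spec (Nat.card G))
    (ZMod.val_coe_unit_coprime a)
  obtain ⟨m, ρ, hρ⟩ := Char.isCharacter_of_irr χ.2
  obtain ⟨ε, hε, hpow⟩ := Char.exists_character_eq_sum_roots ρ g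
  have key : σ ((χ : G → ℂ) g) = (χ : G → ℂ) (g ^ (a : ZMod (Nat.card G)).val) := by
    rw [← hρ, hpow]
    conv_lhs => rw [← pow_one g, hpow 1, map_sum]
    refine Finset.sum_congr rfl fun i _ => ?_
    obtain ⟨q, hq⟩ := orderOf_dvd_natCard g
    obtain ⟨k, -, hk⟩ := (GalAvg.zeta_spec (Nat.card G)).eq_pow_of_pow_eq_one (ξ := ε i)
      (by rw [hq, pow_mul, hε i, one_pow])
    rw [pow_one, ← hk, map_pow, hσ, ← pow_mul, ← pow_mul, mul_comm]
  rw [← key]
  exact h σ.toRingHom g

/-- The two nonprincipal constituents of an integer valued triple are integer valued. -/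
theorem Triple.goodPair {θ : G → ℂ} {c : IrrCharacter G → ℤ} {X Z : IrrCharacter G} {d e : ℕ}
    (ht : Triple θ c X Z d e) (hθ : IsClassFunction G θ) (hc : Coef θ c)
    (hint : ∀ g, ∃ n : ℤ, θ g = n) (hd3 : ¬ 3 ∣ d) (he3 : ¬ 3 ∣ e) : GoodPair G := by
  set T := Char.trivialIrr G with hT
  have hde : d ≠ e := by
    rintro rfl
    have := ht.deg
    rcases ht.cX with h1 | h1 <;> rcases ht.cZ with h2 | h2 <;> simp [h1, h2] at this <;> omega
  have hcases : d = e + 1 ∨ e = d + 1 := by
    have := ht.deg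
    have hd0 : d ≠ 0 := fun h => Char.irr_one_ne_zero X.2 (by rw [ht.degX, h, Nat.cast_zero])
    have he0 : e ≠ 0 := fun h => Char.irr_one_ne_zero Z.2 (by rw [ht.degZ, h, Nat.cast_zero])
    rcases ht.cX with h1 | h1 <;> rcases ht.cZ with h2 | h2 <;> simp [h1, h2] at this <;> omega
  have key : ∀ σ : ℂ →+* ℂ, (∀ g, σ ((X : G → ℂ) g) = (X : G → ℂ) g) ∧
      ∀ g, σ ((Z : G → ℂ) g) = (Z : G → ℂ) g := by
    intro σ
    let m : IrrCharacter G → IrrCharacter G := fun χ =>
      ⟨fun g => σ ((χ : G → ℂ) g), OddChar.irr_map σ χ.2⟩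
    have hminj : Function.Injective m := fun a b h =>
      Subtype.ext (funext fun g => σ.injective (congrFun (congrArg Subtype.val h) g))
    have hmT : m T = T := Subtype.ext (funext fun g => by
      show σ ((T : G → ℂ) g) = _
      exact map_one σ)
    have hσθ : ∀ g, σ (θ g) = θ g := fun g => by
      obtain ⟨n, hn⟩ := hint g
      rw [hn, map_intCast]
    have hcm : ∀ χ, c (m χ) = c χ := by
      intro χ
      have h1 : θ = ∑ ξ : IrrCharacter G, (c ξ : ℂ) • ((m ξ : IrrCharacter G) : G → ℂ) := by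
        funext g
        rw [← hσθ, hc.eq_sum hθ g, map_sum, Finset.sum_apply]
        refine Finset.sum_congr rfl fun ξ _ => ?_
        rw [map_mul, map_intCast]
        rfl
      have h2 := hc.inner (m χ)
      conv_lhs at h2 => rw [h1]
      rw [CharInd.classInner_sum_left, Finset.sum_eq_single χ] at h2
      · rw [Char.classInner_smul_left, CharInd.classInner_irr_self (m χ).2, mul_one] at h2
        exact_mod_cast h2.symm
      · intro ξ _ hne
        rw [Char.classInner_smul_left, CharInd.classInner_irr_ne (m ξ).2 (m χ).2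
          fun h => hne (hminj (Subtype.ext h)), mul_zero]
      · intro h
        exact absurd (Finset.mem_univ _) h
    have hdeg : ∀ χ : IrrCharacter G, ∀ n : ℕ, (χ : G → ℂ) 1 = n → (m χ : G → ℂ) 1 = n := by
      intro χ n hn
      show σ ((χ : G → ℂ) 1) = n
      rw [hn, map_natCast]
    constructor
    · intro g
      have hXm : m X = X := by
        have h0 : c (m X) ≠ 0 := by rw [hcm]; rcases ht.cX with h | h <;> omega
        by_contra hne
        by_cases hZ' : m X = Z
        · have h1 := hdeg X d ht.degX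
          rw [hZ', ht.degZ] at h1
          exact hde (Nat.cast_injective h1).symm
        · exact h0 (ht.support _ (fun h => ht.Xne (hminj (h.trans hmT.symm))) hne hZ')
      exact congrFun (congrArg Subtype.val hXm) g
    · intro g
      have hZm : m Z = Z := by
        have h0 : c (m Z) ≠ 0 := by rw [hcm]; rcases ht.cZ with h | h <;> omega
        by_contra hne
        by_cases hX' : m Z = X
        · have h1 := hdeg Z e ht.degZ
          rw [hX', ht.degX] at h1
          exact hde (Nat.cast_injective h1)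
        · exact h0 (ht.support _ (fun h => ht.Zne (hminj (h.trans hmT.symm))) hX' hne)
      exact congrFun (congrArg Subtype.val hZm) g
  exact ⟨X, Z, d, e, fun h => ht.Xne (Subtype.ext h), fun h => ht.Zne (Subtype.ext h), ht.degX,
    ht.degZ, hcases, hd3, he3, int_of_galois X fun σ => (key σ).1,
    int_of_galois Z fun σ => (key σ).2⟩

end Cfsg.Agent.NineSylow
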